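import Mathlib
import Cfsg.Agent.Lib.BlockB.ClassMul
import Cfsg.Agent.Lib.Char.Column
import Cfsg.Agent.Lib.Char.Linear

/-!
# Coefficients of characters on a coset `t·A` of an odd group centralised by an involution `t`

`A` is the image of an injective homomorphism `ι : Γ →* X`, and `l` is a linear character of `Γ`.
-/

set_option autoImplicit false
set_option linter.unusedSectionVars false

namespace CfsgLib.Recog.NonCA

open CfsgLib.Char
open scoped ComplexConjugate

universe v w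

/-- `x` is twice an algebraic integer. -/
def Two (x : ℂ) : Prop := ∃ y : ℂ, IsIntegral ℤ y ∧ x = 2 * y

theorem Two.zero : Two 0 := ⟨0, isIntegral_zero, (mul_zero 2).symm⟩

theorem Two.add {a b : ℂ} (ha : Two a) (hb : Two b) : Two (a + b) := by
  obtain ⟨x, hx, rfl⟩ := ha
  obtain ⟨y, hy, rfl⟩ := hb
  exact ⟨x + y, hx.add hy, by ring⟩

theorem Two.neg {a : ℂ} (ha : Two a) : Two (-a) := by
  obtain ⟨x, hx, rfl⟩ := ha
  exact ⟨-x, hx.neg, by ring⟩

theorem Two.sub {a b : ℂ} (ha : Two a) (hb : Two b) : Two (a - b) := by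
  rw [sub_eq_add_neg]; exact ha.add hb.neg

theorem Two.mul_left {a c : ℂ} (hc : IsIntegral ℤ c) (ha : Two a) : Two (c * a) := by
  obtain ⟨x, hx, rfl⟩ := ha
  exact ⟨c * x, hc.mul hx, by ring⟩

theorem Two.sum {ι : Type*} (s : Finset ι) {f : ι → ℂ} (hf : ∀ i ∈ s, Two (f i)) :
    Two (∑ i ∈ s, f i) :=
  Finset.sum_induction f Two (fun _ _ => Two.add) Two.zero hf

theorem isIntegral_natCast (m : ℕ) : IsIntegral ℤ (m : ℂ) := by
  simpa using isIntegral_algebraMap (R := ℤ) (A := ℂ) (x := (m : ℤ))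

theorem isIntegral_intCast (m : ℤ) : IsIntegral ℤ (m : ℂ) := by
  simpa using isIntegral_algebraMap (R := ℤ) (A := ℂ) (x := m)

theorem Two.cancel_odd {m : ℤ} (hm : Odd m) {a : ℂ} (ha : IsIntegral ℤ a)
    (h : Two ((m : ℂ) * a)) : Two a := by
  obtain ⟨k, rfl⟩ := hm
  have e : a = ((2 * k + 1 : ℤ) : ℂ) * a - 2 * ((k : ℂ) * a) := by push_cast; ring
  rw [e]
  exact h.sub ⟨_, (isIntegral_intCast k).mul ha, rfl⟩

theorem Two.even {m : ℤ} (h : Two (m : ℂ)) : Even m := by
  obtain ⟨y, hy, e⟩ := h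
  have hq : IsIntegral ℤ (((m : ℚ) / 2 : ℚ) : ℂ) := by
    have e' : (((m : ℚ) / 2 : ℚ) : ℂ) = y := by push_cast; rw [e]; ring
    rw [e']; exact hy
  obtain ⟨k, hk⟩ := exists_int_of_isIntegral_rat hq
  refine ⟨k, ?_⟩
  have : (m : ℚ) = ((k + k : ℤ) : ℚ) := by push_cast; linarith
  exact_mod_cast this

theorem two_sum_invol {ι : Type*} [DecidableEq ι] (s : Finset ι) (σ : ι → ι)
    (h1 : ∀ a ∈ s, σ a ∈ s) (h2 : ∀ a ∈ s, σ (σ a) = a) (h3 : ∀ a ∈ s, σ a ≠ a) {f : ι → ℂ}
    (hf : ∀ a ∈ s, f (σ a) = f a) (hint : ∀ a ∈ s, IsIntegral ℤ (f a)) :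
    Two (∑ a ∈ s, f a) := by
  induction s using Finset.strongInduction with
  | H s ih =>
    rcases s.eq_empty_or_nonempty with rfl | ⟨a, ha⟩
    · simpa using Two.zero
    · have hσ : σ a ∈ s.erase a := Finset.mem_erase.2 ⟨h3 a ha, h1 a ha⟩
      rw [← Finset.add_sum_erase _ _ ha, ← Finset.add_sum_erase _ _ hσ, ← add_assoc, hf a ha]
      have hss : (s.erase a).erase (σ a) ⊂ s :=
        (Finset.erase_ssubset hσ).trans_subset (Finset.erase_subset _ _)
      refine Two.add ⟨f a, hint a ha, by ring⟩ (ih _ hss ?_ ?_ ?_ ?_ ?_)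
      · intro b hb
        simp only [Finset.mem_erase] at hb ⊢
        refine ⟨fun e => hb.2.1 ?_, fun e => hb.1 ?_, h1 b hb.2.2⟩
        · rw [← h2 b hb.2.2, e, h2 a ha]
        · rw [← h2 b hb.2.2, e]
      · exact fun b hb => h2 b (hss.subset hb)
      · exact fun b hb => h3 b (hss.subset hb)
      · exact fun b hb => hf b (hss.subset hb)
      · exact fun b hb => hint b (hss.subset hb)

theorem conj_hom_apply {Γ : Type w} [Group Γ] [Finite Γ] (l : Γ →* ℂˣ) (γ : Γ) :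
    conj (l γ : ℂ) = ((l γ)⁻¹ : ℂˣ) := by
  have h := char_inv (χ := fun g => (l g : ℂ)) (irr_isCharacter (isIrrCharacter_linear l)) γ
  simp only [map_inv] at h
  exact h.symm

theorem isIntegral_hom {Γ : Type w} [Group Γ] [Finite Γ] (l : Γ →* ℂˣ) (γ : Γ) :
    IsIntegral ℤ (l γ : ℂ) := by
  refine IsIntegral.of_pow (n := orderOf γ) (orderOf_pos γ) ?_
  rw [← Units.val_pow_eq_pow_val, ← map_pow, pow_orderOf_eq_one, map_one, Units.val_one]
  exact isIntegral_one

open scoped Classical in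
theorem sum_conj_mul_hom {Γ : Type w} [Group Γ] [Fintype Γ] (l L : Γ →* ℂˣ) :
    ∑ γ : Γ, conj (l γ : ℂ) * (L γ : ℂ) = if L = l then (Nat.card Γ : ℂ) else 0 := by
  let f : Γ →* ℂ := (Units.coeHom ℂ).comp (L * l⁻¹)
  have hf : f = 1 ↔ L = l := by
    constructor
    · intro e
      refine MonoidHom.ext fun γ => ?_
      have h1 : ((L γ * (l γ)⁻¹ : ℂˣ) : ℂ) = 1 := DFunLike.congr_fun e γ
      exact mul_inv_eq_one.1 (Units.ext h1)
    · rintro rfl
      refine MonoidHom.ext fun γ => ?_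
      change ((L γ * (L γ)⁻¹ : ℂˣ) : ℂ) = 1
      rw [mul_inv_cancel, Units.val_one]
  have h := sum_hom_units f
  rw [Finset.sum_congr rfl (fun γ _ => show conj (l γ : ℂ) * (L γ : ℂ) = f γ from by
    rw [conj_hom_apply, mul_comm]; rfl), h, Nat.card_eq_fintype_card]
  by_cases e : L = l
  · rw [if_pos e, if_pos (hf.2 e)]
  · rw [if_neg e, if_neg (fun e' => e (hf.1 e'))]
    norm_num

section Column

variable {X : Type v} [Group X] [Fintype X] [Fintype (Cfsg.IrrCharacter X)]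

open scoped Classical in
/-- Column orthogonality as a count of conjugators. -/
theorem column_count (a b : X) :
    ∑ χ : Cfsg.IrrCharacter X, (χ : X → ℂ) a * conj ((χ : X → ℂ) b) =
      ∑ g : X, if g * a * g⁻¹ = b then (1 : ℂ) else 0 := by
  rw [column_orthogonality, Finset.sum_boole]
  by_cases hc : IsConj a b
  · rw [if_pos hc]
    obtain ⟨c, hc⟩ := isConj_iff.1 hc
    congr 1
    rw [← Fintype.card_subtype, ← Nat.card_eq_fintype_card]
    refine Nat.card_congr
      { toFun := fun g => ⟨c * g, ?_⟩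
        invFun := fun g => ⟨c⁻¹ * g.1, ?_⟩
        left_inv := fun g => Subtype.ext (by simp)
        right_inv := fun g => Subtype.ext (by simp) }
    · have hg := Subgroup.mem_centralizer_singleton_iff.1 g.2
      rw [← hc]
      calc c * (g : X) * a * (c * (g : X))⁻¹ = c * ((g : X) * a) * (g : X)⁻¹ * c⁻¹ := by group
        _ = c * a * c⁻¹ := by rw [hg]; group
    · refine Subgroup.mem_centralizer_singleton_iff.2 ?_
      have hg : g.1 * a * g.1⁻¹ = c * a * c⁻¹ := g.2.trans hc.symm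
      calc c⁻¹ * g.1 * a = c⁻¹ * (g.1 * a * g.1⁻¹) * g.1 := by group
        _ = a * (c⁻¹ * g.1) := by rw [hg]; group
  · rw [if_neg hc, Finset.filter_eq_empty_iff.2 fun g _ e => hc (isConj_iff.2 ⟨g, e⟩)]
    simp

end Column

open scoped Classical in
/-- The sum of an irreducible character over a translated class. -/
theorem class_sum {X : Type v} [Group X] [Fintype X] (χ : Cfsg.IrrCharacter X) (a x : X) :
    ∑ c ∈ Finset.univ.filter (IsConj x), (χ : X → ℂ) (a * c) =
      (χ : X → ℂ) a * Cfsg.centralChar (χ : X → ℂ) x := by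
  have h := CfsgLib.BlockB.sum_irr_mul_conj χ a x
  rw [← Finset.sum_fiberwise_of_maps_to (s := (Finset.univ : Finset X))
    (t := Finset.univ.filter (IsConj x)) (g := fun g => g * x * g⁻¹)
    (fun g _ => Finset.mem_filter.2 ⟨Finset.mem_univ _, isConj_iff.2 ⟨g, rfl⟩⟩)] at h
  have h2 : ∀ c ∈ Finset.univ.filter (IsConj x),
      ∑ g ∈ Finset.univ.filter (fun g : X => g * x * g⁻¹ = c),
        (χ : X → ℂ) (a * (g * x * g⁻¹)) =
      (Nat.card (Subgroup.centralizer ({x} : Set X)) : ℂ) * (χ : X → ℂ) (a * c) := by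
    intro c hc
    obtain ⟨c0, hc0⟩ := isConj_iff.1 (Finset.mem_filter.1 hc).2
    rw [Finset.sum_congr rfl (fun g hg => by rw [(Finset.mem_filter.1 hg).2]), Finset.sum_const,
      nsmul_eq_mul, ← Fintype.card_subtype, ← Nat.card_eq_fintype_card]
    congr 2
    refine Nat.card_congr
      { toFun := fun g => ⟨c0⁻¹ * g.1, ?_⟩
        invFun := fun g => ⟨c0 * g, ?_⟩
        left_inv := fun g => Subtype.ext (by simp)
        right_inv := fun g => Subtype.ext (by simp) }
    · refine Subgroup.mem_centralizer_singleton_iff.2 ?_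
      have hg : g.1 * x * g.1⁻¹ = c0 * x * c0⁻¹ := g.2.trans hc0.symm
      calc c0⁻¹ * g.1 * x = c0⁻¹ * (g.1 * x * g.1⁻¹) * g.1 := by group
        _ = x * (c0⁻¹ * g.1) := by rw [hg]; group
    · have hg := Subgroup.mem_centralizer_singleton_iff.1 g.2
      rw [← hc0]
      calc c0 * (g : X) * x * (c0 * (g : X))⁻¹ = c0 * ((g : X) * x) * (g : X)⁻¹ * c0⁻¹ := by group
        _ = c0 * x * c0⁻¹ := by rw [hg]; group
  rw [Finset.sum_congr rfl h2, ← Finset.mul_sum] at h
  have hne : (Nat.card (Subgroup.centralizer ({x} : Set X)) : ℂ) ≠ 0 := by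
    exact_mod_cast Nat.card_pos.ne'
  apply mul_left_cancel₀ hne
  rw [h, Cfsg.centralChar,
    ← Subgroup.card_mul_index (Subgroup.centralizer ({x} : Set X)), Nat.cast_mul]
  ring

section Coef

variable {X : Type v} [Group X] {Γ : Type w} [Group Γ] [Fintype Γ]

/-- The coefficient of `l` in the function `γ ↦ χ (t * ι γ)`. -/
noncomputable def cf (t : X) (ι : Γ →* X) (l : Γ →* ℂˣ) (χ : X → ℂ) : ℂ :=
  (Nat.card Γ : ℂ)⁻¹ * ∑ γ : Γ, χ (t * ι γ) * conj (l γ : ℂ)

variable [Fintype X] {t : X} (ht : orderOf t = 2) {ι : Γ →* X} (hinj : Function.Injective ι)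
  (hcomm : ∀ γ, t * ι γ = ι γ * t) (hodd : Odd (Nat.card Γ))

include ht hcomm in
theorem cf_add_inner (l : Γ →* ℂˣ) (χ : Cfsg.IrrCharacter X) :
    ∃ k m : ℤ, cf t ι l (χ : X → ℂ) = 2 * k - m ∧
      Cfsg.classInner (fun γ => (χ : X → ℂ) (ι γ)) (fun γ => (l γ : ℂ)) = m := by
  classical
  let j : Subgroup.zpowers t × Γ →* X := (Subgroup.zpowers t).subtype.noncommCoprod ι
    (fun a γ => by
      obtain ⟨k, hk⟩ := Subgroup.mem_zpowers_iff.1 a.2
      show Commute (a : X) (ι γ)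
      rw [← hk]
      exact Commute.zpow_left (hcomm γ) k)
  let l2 : Subgroup.zpowers t × Γ →* ℂˣ := l.comp (MonoidHom.snd _ _)
  obtain ⟨k, hk⟩ := classInner_isCharacter_nat
    (isCharacter_comp (irr_isCharacter χ.2) j) (irr_isCharacter (isIrrCharacter_linear l2))
  obtain ⟨m, hm⟩ := classInner_isCharacter_nat
    (isCharacter_comp (irr_isCharacter χ.2) ι) (irr_isCharacter (isIrrCharacter_linear l))
  refine ⟨k, m, ?_, by exact_mod_cast hm⟩
  have ht1 : (1 : Subgroup.zpowers t) ≠ ⟨t, Subgroup.mem_zpowers t⟩ := fun e => by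
    have e' : t = 1 := (congrArg Subtype.val e).symm
    rw [e', orderOf_one] at ht
    norm_num at ht
  have huniv : (Finset.univ : Finset (Subgroup.zpowers t)) = {1, ⟨t, Subgroup.mem_zpowers t⟩} := by
    symm
    refine Finset.eq_univ_of_card _ ?_
    rw [Finset.card_pair ht1, ← Nat.card_eq_fintype_card, Nat.card_zpowers, ht]
  rw [classInner_def, Nat.card_prod, Nat.card_zpowers, ht, Fintype.sum_prod_type, huniv,
    Finset.sum_pair ht1] at hk
  rw [classInner_def] at hm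
  simp only [j, l2, Function.comp_apply, MonoidHom.noncommCoprod_apply, MonoidHom.coe_comp,
    MonoidHom.coe_snd, Subgroup.coe_subtype, OneMemClass.coe_one, one_mul] at hk
  simp only [Function.comp_apply] at hm
  have hne : (Nat.card Γ : ℂ) ≠ 0 := natCard_ne_zero
  push_cast at hk ⊢
  rw [cf]
  rw [mul_inv, mul_add, mul_assoc, mul_assoc] at hk
  linear_combination (2 : ℂ) * hk - hm

include ht hcomm in
theorem cf_int (l : Γ →* ℂˣ) (χ : Cfsg.IrrCharacter X) :
    ∃ m : ℤ, cf t ι l (χ : X → ℂ) = m := by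
  obtain ⟨k, m, hk, -⟩ := cf_add_inner ht hcomm l χ
  exact ⟨2 * k - m, by push_cast; exact hk⟩

/-- `cf` as an integer. -/
noncomputable def cfZ (l : Γ →* ℂˣ) (χ : Cfsg.IrrCharacter X) : ℤ :=
  (cf_int ht hcomm l χ).choose

theorem cfZ_cast (l : Γ →* ℂˣ) (χ : Cfsg.IrrCharacter X) :
    (cfZ ht hcomm l χ : ℂ) = cf t ι l (χ : X → ℂ) :=
  (cf_int ht hcomm l χ).choose_spec.symm

include ht hinj hcomm hodd in
theorem conj_mem_cen {g : X} {γ γ' : Γ} (e : g * (t * ι γ) * g⁻¹ = t * ι γ') :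
    g * t * g⁻¹ = t := by
  have hp : ∀ δ : Γ, (t * ι δ) ^ Nat.card Γ = t := by
    intro δ
    rw [Commute.mul_pow (hcomm δ), ← map_pow, pow_card_eq_one', map_one, mul_one]
    obtain ⟨m, hm⟩ := hodd
    rw [hm, pow_succ, pow_mul, ← ht, pow_orderOf_eq_one, one_pow, one_mul]
  have h1 := congrArg (· ^ Nat.card Γ) e
  simp only [conj_pow, hp] at h1
  exact h1

variable [Fintype (Cfsg.IrrCharacter X)]

include ht hinj hcomm hodd in
open scoped Classical in
/-- Inner products of coefficient vectors. -/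
theorem cf_norm (l l' : Γ →* ℂˣ)
    (hM : ∀ g : X, g * t * g⁻¹ = t → ∀ γ, ∃ γ', ι γ' = g * ι γ * g⁻¹) :
    ∑ χ : Cfsg.IrrCharacter X,
        cf t ι l (χ : X → ℂ) * conj (cf t ι l' (χ : X → ℂ)) =
      (Nat.card Γ : ℂ)⁻¹ * ((Finset.univ.filter fun g : X => g * t * g⁻¹ = t ∧
        ∀ γ γ', ι γ' = g * ι γ * g⁻¹ → l' γ' = l γ).card : ℂ) := by
  have h1 : ∑ χ : Cfsg.IrrCharacter X,
        cf t ι l (χ : X → ℂ) * conj (cf t ι l' (χ : X → ℂ)) =
      (Nat.card Γ : ℂ)⁻¹ * (Nat.card Γ : ℂ)⁻¹ * ∑ g : X, ∑ γ : Γ, ∑ γ' : Γ,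
        conj (l γ : ℂ) * (l' γ' : ℂ) *
          (if g * (t * ι γ) * g⁻¹ = t * ι γ' then (1 : ℂ) else 0) := by
    rw [Finset.sum_comm (s := (Finset.univ : Finset X))]
    simp only [Finset.sum_comm (s := (Finset.univ : Finset X)), ← Finset.mul_sum, ← column_count]
    simp only [cf, map_mul, map_inv₀, Complex.conj_natCast, map_sum, Complex.conj_conj,
      Finset.mul_sum, Finset.sum_mul]
    rw [Finset.sum_comm]
    refine Eq.trans ?_ (Finset.sum_comm)
    refine Finset.sum_congr rfl fun γ' _ => ?_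
    rw [Finset.sum_comm]
    exact Finset.sum_congr rfl fun γ _ => Finset.sum_congr rfl fun χ _ => by ring
  have h2 : ∀ g : X, ∑ γ : Γ, ∑ γ' : Γ, conj (l γ : ℂ) * (l' γ' : ℂ) *
        (if g * (t * ι γ) * g⁻¹ = t * ι γ' then (1 : ℂ) else 0) =
      if g * t * g⁻¹ = t ∧ ∀ γ γ', ι γ' = g * ι γ * g⁻¹ → l' γ' = l γ then
        (Nat.card Γ : ℂ) else 0 := by
    intro g
    by_cases hg : g * t * g⁻¹ = t
    · have hmul : ∀ γ, g * (t * ι γ) * g⁻¹ = t * (g * ι γ * g⁻¹) := fun γ => by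
        calc g * (t * ι γ) * g⁻¹ = (g * t * g⁻¹) * (g * ι γ * g⁻¹) := by group
          _ = t * (g * ι γ * g⁻¹) := by rw [hg]
      choose α hα using hM g hg
      let L : Γ →* ℂˣ := MonoidHom.mk' (fun γ => l' (α γ)) fun a b => by
        rw [show α (a * b) = α a * α b from hinj (by
          rw [map_mul, hα, hα, hα, map_mul]; group), map_mul]
      rw [Finset.sum_congr rfl fun γ _ => show ∑ γ' : Γ, conj (l γ : ℂ) * (l' γ' : ℂ) *
          (if g * (t * ι γ) * g⁻¹ = t * ι γ' then (1 : ℂ) else 0) = conj (l γ : ℂ) * (L γ : ℂ) from by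
        rw [Finset.sum_eq_single (α γ)]
        · rw [hmul, hα, if_pos rfl, mul_one]; rfl
        · intro γ' _ hne
          rw [if_neg, mul_zero]
          rw [hmul]
          exact fun e => hne (hinj (by rw [hα]; exact (mul_left_cancel e).symm))
        · simp]
      rw [sum_conj_mul_hom]
      by_cases hL : L = l
      · rw [if_pos hL, if_pos ⟨hg, fun γ γ' e => by
          rw [← hL, show γ' = α γ from hinj (e.trans (hα γ).symm)]; rfl⟩]
      · rw [if_neg hL, if_neg fun e => hL (MonoidHom.ext fun γ => e.2 γ (α γ) (hα γ))]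
    · rw [if_neg fun e => hg e.1]
      refine Finset.sum_eq_zero fun γ _ => Finset.sum_eq_zero fun γ' _ => ?_
      rw [if_neg fun e => hg (conj_mem_cen ht hinj hcomm hodd e), mul_zero]
  rw [h1, Finset.sum_congr rfl fun g _ => h2 g, Finset.sum_ite, Finset.sum_const_zero, add_zero,
    Finset.sum_const, nsmul_eq_mul]
  have hne : (Nat.card Γ : ℂ) ≠ 0 := natCard_ne_zero
  field_simp

include ht hinj hcomm hodd in
/-- The coefficient vectors have degree zero. -/
theorem cf_degree (l : Γ →* ℂˣ) :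
    ∑ χ : Cfsg.IrrCharacter X, (χ : X → ℂ) 1 * cf t ι l (χ : X → ℂ) = 0 := by
  classical
  simp only [cf, Finset.mul_sum]
  rw [Finset.sum_comm]
  refine Finset.sum_eq_zero fun γ _ => ?_
  have hne : t * ι γ ≠ 1 := by
    intro e
    have e1 : orderOf (ι γ) = 2 := by
      rw [eq_inv_of_mul_eq_one_right e, orderOf_inv, ht]
    have e2 : 2 ∣ Nat.card Γ := by
      rw [← e1]; exact (orderOf_map_dvd ι γ).trans (orderOf_dvd_natCard γ)
    exact hodd.not_two_dvd_nat e2
  have h := sum_irr_mul_degree (t * ι γ)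
  rw [if_neg hne] at h
  calc ∑ χ : Cfsg.IrrCharacter X,
        (χ : X → ℂ) 1 * ((Nat.card Γ : ℂ)⁻¹ * ((χ : X → ℂ) (t * ι γ) * conj (l γ : ℂ)))
      = ((Nat.card Γ : ℂ)⁻¹ * conj (l γ : ℂ)) *
          ∑ χ : Cfsg.IrrCharacter X, (χ : X → ℂ) 1 * (χ : X → ℂ) (t * ι γ) := by
        rw [Finset.mul_sum]; exact Finset.sum_congr rfl fun χ _ => by ring
    _ = 0 := by rw [h, mul_zero]

include ht hinj hcomm hodd in
open scoped Classical in
/-- The central character modulo two, from one odd coefficient. -/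
theorem cf_sep (l : Γ →* ℂˣ) (χ : Cfsg.IrrCharacter X) {m : ℤ} (hm : Odd m)
    (hcf : cf t ι l (χ : X → ℂ) = m) (x : X)
    (hx : ∀ c, IsConj x c → c * t = t * c → ∃ γ, ι γ = c) :
    Two (Cfsg.centralChar (χ : X → ℂ) x -
      ∑ γ ∈ Finset.univ.filter (fun γ => IsConj x (ι γ)), (l γ : ℂ)) := by
  set Cx : Finset X := Finset.univ.filter (IsConj x) with hCx
  set Q : Finset Γ := Finset.univ.filter (fun γ => IsConj x (ι γ)) with hQ
  have hcl := irr_isClassFunction χ.2
  have htinv : t⁻¹ = t := inv_eq_of_mul_eq_one_right (by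
    rw [← pow_two, ← ht, pow_orderOf_eq_one])
  have hsplit : ∀ γ : Γ, Two ((χ : X → ℂ) (t * ι γ) * Cfsg.centralChar (χ : X → ℂ) x -
      ∑ δ ∈ Q, (χ : X → ℂ) (t * ι γ * ι δ)) := by
    intro γ
    rw [← class_sum χ (t * ι γ) x, ← hCx]
    have hA : Cx.filter (fun c => c * t = t * c) = Q.image ι := by
      ext c
      simp only [hCx, hQ, Finset.mem_filter, Finset.mem_univ, true_and, Finset.mem_image]
      constructor
      · rintro ⟨hc, hc'⟩
        obtain ⟨δ, rfl⟩ := hx c hc hc'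
        exact ⟨δ, hc, rfl⟩
      · rintro ⟨δ, hδ, rfl⟩
        exact ⟨hδ, (hcomm δ).symm⟩
    rw [← Finset.sum_filter_add_sum_filter_not Cx (fun c => c * t = t * c), hA,
      Finset.sum_image hinj.injOn, add_sub_cancel_left]
    refine two_sum_invol _ (fun c => t * c * t⁻¹) ?_ ?_ ?_ ?_ ?_
    · intro c hc
      simp only [hCx, Finset.mem_filter, Finset.mem_univ, true_and] at hc ⊢
      refine ⟨hc.1.trans (isConj_iff.2 ⟨t, rfl⟩), fun e => hc.2 ?_⟩
      calc c * t = t⁻¹ * (t * c * t⁻¹ * t) * t := by group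
        _ = t⁻¹ * (t * (t * c * t⁻¹)) * t := by rw [e]
        _ = t * c := by group
    · intro c _
      simp only [htinv]
      have htt : t * t = 1 := by rw [← pow_two, ← ht, pow_orderOf_eq_one]
      calc t * (t * c * t) * t = (t * t) * c * (t * t) := by group
        _ = c := by rw [htt, one_mul, mul_one]
    · intro c hc e
      simp only [Finset.mem_filter] at hc
      exact hc.2 (mul_inv_eq_iff_eq_mul.1 e).symm
    · intro c _
      have e : t * ι γ * (t * c * t⁻¹) = t * (t * ι γ * c) * t⁻¹ := by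
        rw [hcomm γ]
        simp only [← mul_assoc]
        rw [hcomm γ]
      rw [e, hcl]
    · intro c _
      exact CfsgLib.BlockB.irr_isIntegral χ _
  have h1 : Two (∑ γ : Γ, conj (l γ : ℂ) *
      ((χ : X → ℂ) (t * ι γ) * Cfsg.centralChar (χ : X → ℂ) x -
        ∑ δ ∈ Q, (χ : X → ℂ) (t * ι γ * ι δ))) :=
    Two.sum _ fun γ _ => (hsplit γ).mul_left (by
      rw [conj_hom_apply, ← map_inv]; exact isIntegral_hom l _)
  have h2 : ∀ δ : Γ, ∑ γ : Γ, conj (l γ : ℂ) * (χ : X → ℂ) (t * ι γ * ι δ) =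
      (l δ : ℂ) * ((Nat.card Γ : ℂ) * cf t ι l (χ : X → ℂ)) := by
    intro δ
    rw [cf, ← mul_assoc (Nat.card Γ : ℂ), mul_inv_cancel₀ natCard_ne_zero, one_mul, Finset.mul_sum]
    refine Fintype.sum_equiv (Equiv.mulRight δ) _ _ fun γ => ?_
    rw [Equiv.coe_mulRight, map_mul, map_mul, Units.val_mul, map_mul, mul_assoc t,
      conj_hom_apply l δ]
    have hδ : (l δ : ℂ) * (((l δ)⁻¹ : ℂˣ) : ℂ) = 1 := Units.mul_inv _
    linear_combination -((conj (l γ : ℂ)) * (χ : X → ℂ) (t * (ι γ * ι δ))) * hδ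
  simp only [mul_sub, Finset.mul_sum, Finset.sum_sub_distrib] at h1
  rw [Finset.sum_comm (s := (Finset.univ : Finset Γ)) (t := Q),
    Finset.sum_congr rfl fun δ _ => h2 δ, ← Finset.sum_mul] at h1
  have h3 : ∑ γ : Γ, conj (l γ : ℂ) * ((χ : X → ℂ) (t * ι γ) *
      Cfsg.centralChar (χ : X → ℂ) x) =
      Cfsg.centralChar (χ : X → ℂ) x * ((Nat.card Γ : ℂ) * cf t ι l (χ : X → ℂ)) := by
    rw [cf, ← mul_assoc (Nat.card Γ : ℂ), mul_inv_cancel₀ natCard_ne_zero, one_mul, Finset.mul_sum]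
    exact Finset.sum_congr rfl fun γ _ => by ring
  rw [h3, hcf, ← sub_mul] at h1
  refine Two.cancel_odd (m := (Nat.card Γ : ℤ) * m) (((Int.odd_coe_nat _).2 hodd).mul hm)
    ((CfsgLib.BlockB.irr_centralChar_isIntegral χ x).sub
      (IsIntegral.sum _ fun δ _ => isIntegral_hom l δ)) ?_
  push_cast
  rw [mul_comm]
  exact h1

end Coef

end CfsgLib.Recog.NonCA
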