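import Cfsg.Agent.Lib.Recog.NonCA.KleinChar.Group
import Cfsg.Agent.Lib.Recog.NonCA.KleinChar.Coset
import Cfsg.Agent.Lib.Char.LinearSum

/-!
# The coefficients of a character on the coset `t F D`

`cl` is attached to a linear character of `D` (inflated to `F D`), `cr` to its restriction to
`t D`, and `ca` to a linear character of `F × D₀`.
-/

set_option autoImplicit false
set_option linter.unusedSectionVars false
set_option linter.unusedDecidableInType false

namespace CfsgLib.Recog.NonCA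

open CfsgLib.Char
open scoped ComplexConjugate

universe v

open scoped Classical in
theorem sum_all_hom {H : Type v} [Group H] [Fintype H] [Fintype (H →* ℂˣ)]
    (hc : ∀ a b : H, a * b = b * a) (a : H) :
    ∑ l : H →* ℂˣ, conj (l a : ℂ) = if a = 1 then (Nat.card H : ℂ) else 0 := by
  rw [← map_sum, sum_linear_apply]
  have hbot : commutator H = ⊥ := by
    rw [commutator_def, Subgroup.commutator_eq_bot_iff_le_centralizer]
    exact fun x _ => Subgroup.mem_centralizer_iff.2 fun y _ => hc y x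
  simp only [hbot, Subgroup.mem_bot, Subgroup.index_bot]
  split_ifs <;> simp

theorem hom_eq_one_of_sq {H : Type v} [Group H] [Finite H] (hodd : Odd (Nat.card H))
    {l : H →* ℂˣ} (hsq : ∀ a, l a * l a = 1) : l = 1 := by
  refine MonoidHom.ext fun a => ?_
  obtain ⟨m, hm⟩ := hodd
  have h1 : l a ^ (2 * m + 1) = 1 := by rw [← map_pow, ← hm, pow_card_eq_one', map_one]
  rw [pow_succ, pow_mul, pow_two, hsq, one_pow, one_mul] at h1
  rw [h1, MonoidHom.one_apply]

namespace KleinCent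

variable {X : Type v} [Group X] {t u n : X} {F D : Subgroup X}

section Basic

variable (h : KleinCent t u n F D)
include h

theorem exists_dpart (k : h.K) : ∃ d : D, ∃ f ∈ F, (k : X) = f * (d : X) := by
  obtain ⟨f, hf, d, hd, e⟩ := h.mem_K.1 k.2
  exact ⟨⟨d, hd⟩, f, hf, e⟩

/-- The `D`-part of an element of `K`. -/
noncomputable def dpart (k : h.K) : D := (h.exists_dpart k).choose

theorem dpart_eq {k : h.K} {f : X} (hf : f ∈ F) {d : D} (e : (k : X) = f * (d : X)) :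
    h.dpart k = d := by
  obtain ⟨f', hf', e'⟩ := (h.exists_dpart k).choose_spec
  exact Subtype.ext (h.FD_ext hf' hf (h.dpart k).2 d.2 (e'.symm.trans e)).2

/-- The projection `K → D`. -/
noncomputable def proj : h.K →* D := MonoidHom.mk' h.dpart fun a b => by
  obtain ⟨f, hf, e⟩ := (h.exists_dpart a).choose_spec
  obtain ⟨f', hf', e'⟩ := (h.exists_dpart b).choose_spec
  have e2 : ((a * b : h.K) : X) =
      (f * ((h.dpart a : X) * f' * (h.dpart a : X)⁻¹)) * ((h.dpart a * h.dpart b : D) : X) := by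
    rw [Subgroup.coe_mul, Subgroup.coe_mul]
    exact (congrArg₂ (· * ·) e e').trans h.mul_FD
  exact h.dpart_eq (mul_mem hf (h.hDF _ (h.dpart a).2 f' hf')) e2

theorem proj_eq {k : h.K} {f : X} (hf : f ∈ F) {d : D} (e : (k : X) = f * (d : X)) :
    h.proj k = d := h.dpart_eq hf e

/-- The inflation of a character of `D` to `K`. -/
noncomputable def lamK (l : D →* ℂˣ) : h.K →* ℂˣ := l.comp h.proj

theorem lamK_apply {l : D →* ℂˣ} {k : h.K} {f : X} (hf : f ∈ F) {d : D}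
    (e : (k : X) = f * (d : X)) : h.lamK l k = l d := by
  rw [lamK, MonoidHom.comp_apply, h.proj_eq hf e]

theorem K_comm (k : h.K) : t * h.K.subtype k = h.K.subtype k * t :=
  (h.mem_M_iff.1 (h.K_le_M k.2)).symm

theorem D_comm (d : D) : t * D.subtype d = D.subtype d * t := h.hDt d d.2

/-- The map `F × D₀ → X`. -/
def iA : F × h.D0 →* X :=
  F.subtype.noncommCoprod h.D0.subtype fun a d => ((h.mem_D0.1 d.2).2 a a.2).symm

theorem iA_apply (p : F × h.D0) : h.iA p = (p.1 : X) * (p.2 : X) := rfl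

theorem D0_le : h.D0 ≤ D := fun _ hd => (h.mem_D0.1 hd).1

theorem A_comm (p : F × h.D0) : t * h.iA p = h.iA p * t := by
  rw [iA_apply]
  exact ((show Commute t p.1 from h.hFt _ p.1.2).mul_right
    (show Commute t p.2 from h.hDt _ (h.D0_le p.2.2))).eq

theorem iA_inj : Function.Injective h.iA := by
  rintro ⟨a, d⟩ ⟨a', d'⟩ e
  obtain ⟨e1, e2⟩ := h.FD_ext a.2 a'.2 (h.D0_le d.2) (h.D0_le d'.2) e
  exact Prod.ext (Subtype.ext e1) (Subtype.ext e2)

theorem iA_mem (p : F × h.D0) : h.iA p ∈ h.K := h.FD_mem_K p.1.2 (h.D0_le p.2.2)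

/-- The character `ψ × ρ` of `F × D₀`. -/
def lA (p : F →* ℂˣ) (q : h.D0 →* ℂˣ) : F × h.D0 →* ℂˣ :=
  (p.comp (MonoidHom.fst _ _)) * (q.comp (MonoidHom.snd _ _))

theorem lA_apply (p : F →* ℂˣ) (q : h.D0 →* ℂˣ) (x : F × h.D0) :
    h.lA p q x = p x.1 * q x.2 := rfl

/-- Conjugation by `n` on `D`. -/
def sig : D →* D where
  toFun d := ⟨n * d * n⁻¹, h.hDn d d.2⟩
  map_one' := Subtype.ext (by simp)
  map_mul' a b := Subtype.ext (by simp [mul_assoc])

theorem sig_apply (d : D) : (h.sig d : X) = n * d * n⁻¹ := rfl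

theorem sig_cube [Finite X] (d : D) : h.sig (h.sig (h.sig d)) = d :=
  Subtype.ext (h.n_cube_D d.2)

/-- `sig` as an equivalence. -/
def sigEquiv [Finite X] : D ≃ D :=
  ⟨h.sig, fun d => h.sig (h.sig d), h.sig_cube, h.sig_cube⟩

theorem odd_A [Finite X] : Odd (Nat.card (F × h.D0)) := by
  rw [Nat.card_prod]
  exact h.hFodd.mul (h.hDodd.of_dvd_nat (Subgroup.card_dvd_of_le h.D0_le))

end Basic

section Defs

variable [Fintype X] (h : KleinCent t u n F D)

open scoped Classical in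
/-- The coefficient of a linear character of `D`. -/
noncomputable def cl (l : D →* ℂˣ) (χ : Cfsg.IrrCharacter X) : ℤ :=
  cfZ h.ht h.K_comm (h.lamK l) χ

open scoped Classical in
/-- The coefficient on `t D`. -/
noncomputable def cr (l : D →* ℂˣ) (χ : Cfsg.IrrCharacter X) : ℤ :=
  cfZ h.ht h.D_comm l χ

open scoped Classical in
/-- The coefficient of a character of `F × D₀`. -/
noncomputable def ca (p : F →* ℂˣ) (q : h.D0 →* ℂˣ) (χ : Cfsg.IrrCharacter X) : ℤ :=
  cfZ h.ht h.A_comm (h.lA p q) χ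

end Defs

section Sums

open scoped Classical

variable [Fintype X] (h : KleinCent t u n F D)

theorem cl_cast (l : D →* ℂˣ) (χ : Cfsg.IrrCharacter X) :
    (h.cl l χ : ℂ) = cf t h.K.subtype (h.lamK l) (χ : X → ℂ) := cfZ_cast _ _ _ _

theorem cr_cast (l : D →* ℂˣ) (χ : Cfsg.IrrCharacter X) :
    (h.cr l χ : ℂ) = cf t D.subtype l (χ : X → ℂ) := cfZ_cast _ _ _ _

theorem ca_cast (p : F →* ℂˣ) (q : h.D0 →* ℂˣ) (χ : Cfsg.IrrCharacter X) :
    (h.ca p q χ : ℂ) = cf t h.iA (h.lA p q) (χ : X → ℂ) := cfZ_cast _ _ _ _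

theorem cl_eq (l : D →* ℂˣ) (χ : Cfsg.IrrCharacter X) :
    (Nat.card F : ℂ) * Nat.card D * h.cl l χ =
      ∑ d : D, (∑ f : F, (χ : X → ℂ) (t * ((f : X) * d))) * conj (l d : ℂ) := by
  rw [cl_cast, cf, h.card_K, Nat.cast_mul, ← mul_assoc,
    mul_inv_cancel₀ (mul_ne_zero natCard_ne_zero natCard_ne_zero), one_mul]
  rw [Finset.sum_congr rfl fun d _ => Finset.sum_mul _ _ _, Finset.sum_comm,
    ← Fintype.sum_prod_type' (f := fun (f : F) (d : D) =>
      (χ : X → ℂ) (t * ((f : X) * d)) * conj (l d : ℂ))]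
  refine (Fintype.sum_bijective
    (fun p : F × D => (⟨(p.1 : X) * p.2, h.FD_mem_K p.1.2 p.2.2⟩ : h.K)) ⟨?_, ?_⟩ _ _ ?_).symm
  · rintro ⟨a, d⟩ ⟨a', d'⟩ e
    obtain ⟨e1, e2⟩ := h.FD_ext a.2 a'.2 d.2 d'.2 (congrArg Subtype.val e)
    exact Prod.ext (Subtype.ext e1) (Subtype.ext e2)
  · rintro ⟨x, hx⟩
    obtain ⟨f, hf, d, hd, rfl⟩ := h.mem_K.1 hx
    exact ⟨(⟨f, hf⟩, ⟨d, hd⟩), rfl⟩
  · intro p
    rw [Subgroup.coe_subtype, h.lamK_apply p.1.2 (d := p.2) rfl]

theorem cr_eq (l : D →* ℂˣ) (χ : Cfsg.IrrCharacter X) :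
    (Nat.card D : ℂ) * h.cr l χ = ∑ d : D, (χ : X → ℂ) (t * d) * conj (l d : ℂ) := by
  rw [cr_cast, cf, ← mul_assoc, mul_inv_cancel₀ natCard_ne_zero, one_mul]
  rfl

theorem ca_eq (p : F →* ℂˣ) (q : h.D0 →* ℂˣ) (χ : Cfsg.IrrCharacter X) :
    (Nat.card F : ℂ) * Nat.card h.D0 * h.ca p q χ =
      ∑ d : h.D0, ∑ f : F,
        (χ : X → ℂ) (t * ((f : X) * d)) * (conj (p f : ℂ) * conj (q d : ℂ)) := by
  rw [ca_cast, cf, Nat.card_prod, Nat.cast_mul, ← mul_assoc,
    mul_inv_cancel₀ (mul_ne_zero natCard_ne_zero natCard_ne_zero), one_mul,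
    Fintype.sum_prod_type, Finset.sum_comm]
  refine Finset.sum_congr rfl fun d _ => Finset.sum_congr rfl fun f _ => ?_
  rw [h.iA_apply, h.lA_apply, Units.val_mul, map_mul]

include h in
theorem F_hom_comm (a b : F) : a * b = b * a := Subtype.ext (h.hFcomm _ a.2 _ b.2)

include h in
theorem D_hom_comm (a b : D) : a * b = b * a := Subtype.ext (h.hDcomm _ a.2 _ b.2)

include h in
theorem D0_hom_comm (a b : h.D0) : a * b = b * a :=
  Subtype.ext (h.hDcomm _ (h.D0_le a.2) _ (h.D0_le b.2))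

theorem card_D0_hom : Nat.card (h.D0 →* ℂˣ) = Nat.card h.D0 := by
  have hbot : commutator h.D0 = ⊥ := by
    rw [commutator_def, Subgroup.commutator_eq_bot_iff_le_centralizer]
    exact fun x _ => Subgroup.mem_centralizer_iff.2 fun y _ => h.D0_hom_comm y x
  rw [natCard_linear, hbot, Subgroup.index_bot]

variable [Fintype (F →* ℂˣ)] [Fintype (h.D0 →* ℂˣ)] [Fintype (D →* ℂˣ)]

theorem sum_cl (χ : Cfsg.IrrCharacter X) :
    (Nat.card F : ℂ) * ∑ l : D →* ℂˣ, (h.cl l χ : ℂ) = ∑ f : F, (χ : X → ℂ) (t * f) := by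
  apply mul_left_cancel₀ (natCard_ne_zero (G := D))
  rw [← mul_assoc, mul_comm (Nat.card D : ℂ) (Nat.card F : ℂ), Finset.mul_sum,
    Finset.sum_congr rfl fun l _ => h.cl_eq l χ, Finset.sum_comm,
    Finset.sum_congr rfl fun d _ => (Finset.mul_sum _ _ _).symm,
    Finset.sum_congr rfl fun d _ => by rw [sum_all_hom h.D_hom_comm d],
    Finset.sum_eq_single (1 : D)]
  · rw [if_pos rfl, mul_comm]
    simp
  · intro d _ hd; rw [if_neg hd, mul_zero]
  · simp

theorem sum_ca_left (q : h.D0 →* ℂˣ) (χ : Cfsg.IrrCharacter X) :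
    (Nat.card h.D0 : ℂ) * ∑ p : F →* ℂˣ, (h.ca p q χ : ℂ) =
      ∑ d : h.D0, (χ : X → ℂ) (t * d) * conj (q d : ℂ) := by
  apply mul_left_cancel₀ (natCard_ne_zero (G := F))
  rw [← mul_assoc, Finset.mul_sum, Finset.sum_congr rfl fun p _ => h.ca_eq p q χ,
    Finset.sum_comm, Finset.mul_sum]
  refine Finset.sum_congr rfl fun d _ => ?_
  rw [Finset.sum_comm, Finset.sum_congr rfl fun f _ => by
      rw [← Finset.mul_sum, ← Finset.sum_mul, sum_all_hom h.F_hom_comm f],
    Finset.sum_eq_single (1 : F)]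
  · rw [if_pos rfl, OneMemClass.coe_one, one_mul]; ring
  · intro f _ hf; rw [if_neg hf]; ring
  · simp

theorem sum_ca_right (χ : Cfsg.IrrCharacter X) :
    (Nat.card F : ℂ) * ∑ q : h.D0 →* ℂˣ, (h.ca 1 q χ : ℂ) = ∑ f : F, (χ : X → ℂ) (t * f) := by
  apply mul_left_cancel₀ (natCard_ne_zero (G := h.D0))
  rw [← mul_assoc, mul_comm (Nat.card h.D0 : ℂ) (Nat.card F : ℂ), Finset.mul_sum,
    Finset.sum_congr rfl fun q _ => h.ca_eq 1 q χ, Finset.sum_comm,
    Finset.sum_eq_single (1 : h.D0)]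
  · rw [Finset.sum_comm, Finset.mul_sum]
    refine Finset.sum_congr rfl fun f _ => ?_
    simp only [MonoidHom.one_apply, Units.val_one, map_one, one_mul, OneMemClass.coe_one, mul_one,
      Finset.sum_const, Finset.card_univ, nsmul_eq_mul]
    rw [← Nat.card_eq_fintype_card, h.card_D0_hom]
  · intro d _ hd
    rw [Finset.sum_comm]
    refine Finset.sum_eq_zero fun f _ => ?_
    rw [← Finset.mul_sum, ← Finset.mul_sum, sum_all_hom h.D0_hom_comm d, if_neg hd]
    ring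
  · simp

theorem chi_t (χ : Cfsg.IrrCharacter X) (hz : ∀ p : F →* ℂˣ, p ≠ 1 → ∀ q, h.ca p q χ = 0) :
    (χ : X → ℂ) t = ∑ l : D →* ℂˣ, (h.cl l χ : ℂ) := by
  apply mul_left_cancel₀ (natCard_ne_zero (G := F))
  rw [h.sum_cl, ← h.sum_ca_right]
  congr 1
  have h1 : ∀ q : h.D0 →* ℂˣ, (h.ca 1 q χ : ℂ) = ∑ p : F →* ℂˣ, (h.ca p q χ : ℂ) := fun q =>
    (Finset.sum_eq_single (f := fun p => (h.ca p q χ : ℂ)) (1 : F →* ℂˣ)
      (fun p _ hp => by rw [hz p hp q, Int.cast_zero]) (fun e => absurd (Finset.mem_univ _) e)).symm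
  rw [Finset.sum_congr rfl fun q _ => h1 q]
  apply mul_left_cancel₀ (natCard_ne_zero (G := h.D0))
  rw [Finset.mul_sum, Finset.sum_congr rfl fun q _ => h.sum_ca_left q χ, Finset.sum_comm,
    Finset.sum_congr rfl fun d _ => (Finset.mul_sum _ _ _).symm,
    Finset.sum_congr rfl fun d _ => by rw [sum_all_hom h.D0_hom_comm d],
    Finset.sum_eq_single (1 : h.D0)]
  · rw [if_pos rfl, OneMemClass.coe_one, mul_one, mul_comm]
  · intro d _ hd; rw [if_neg hd, mul_zero]
  · simp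

theorem outside_D0 (χ : Cfsg.IrrCharacter X) {d : D} (hd : (d : X) ∉ h.D0) (f : F) :
    (χ : X → ℂ) (t * ((f : X) * d)) = (χ : X → ℂ) (t * d) := by
  obtain ⟨a, ha, e⟩ := h.exists_conj_of_notMem d.2 hd f.2
  have e2 : t * ((f : X) * d) = a * (t * d) * a⁻¹ := by
    rw [← e, ← mul_assoc, ← mul_assoc, h.hFt a ha]
    group
  rw [e2]
  exact irr_isClassFunction χ.2 _ _

/-- The difference between the coefficients on `t D` and on `t F D`. -/
theorem cr_sub_cl (l : D →* ℂˣ) (χ : Cfsg.IrrCharacter X) :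
    (Nat.card D : ℂ) * ((h.cr l χ : ℂ) - h.cl l χ) = (Nat.card h.D0 : ℂ) *
      ∑ p ∈ Finset.univ.erase (1 : F →* ℂˣ),
        (h.ca p (l.comp (Subgroup.inclusion h.D0_le)) χ : ℂ) := by
  apply mul_left_cancel₀ (natCard_ne_zero (G := F))
  set q := l.comp (Subgroup.inclusion h.D0_le) with hq
  set G : D → ℂ := fun d => ((Nat.card F : ℂ) * (χ : X → ℂ) (t * d) -
      ∑ f : F, (χ : X → ℂ) (t * ((f : X) * d))) * conj (l d : ℂ) with hG
  have hl : (Nat.card F : ℂ) * ((Nat.card D : ℂ) * ((h.cr l χ : ℂ) - h.cl l χ)) = ∑ d : D, G d := by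
    simp only [hG, sub_mul, Finset.sum_sub_distrib, mul_assoc, ← Finset.mul_sum]
    rw [← h.cr_eq, ← h.cl_eq]
    ring
  have hr : (Nat.card F : ℂ) * ((Nat.card h.D0 : ℂ) *
      ∑ p ∈ Finset.univ.erase (1 : F →* ℂˣ), (h.ca p q χ : ℂ)) =
      ∑ d : h.D0, G (Subgroup.inclusion h.D0_le d) := by
    rw [Finset.sum_erase_eq_sub (Finset.mem_univ _), mul_sub, mul_sub, h.sum_ca_left q χ,
      ← mul_assoc, h.ca_eq 1 q χ, Finset.mul_sum, ← Finset.sum_sub_distrib]
    refine Finset.sum_congr rfl fun d _ => ?_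
    simp only [hG, hq, MonoidHom.comp_apply, MonoidHom.one_apply, Units.val_one, map_one, one_mul,
      Subgroup.coe_inclusion, ← Finset.sum_mul]
    ring
  rw [hl, hr]
  symm
  refine Finset.sum_bij_ne_zero (fun d _ _ => Subgroup.inclusion h.D0_le d)
    (fun _ _ _ => Finset.mem_univ _) (fun a _ _ b _ _ e => Subgroup.inclusion_injective _ e)
    (fun d _ hd => ?_) (fun _ _ _ => rfl)
  by_cases hd0 : (d : X) ∈ h.D0
  · exact ⟨⟨d, hd0⟩, Finset.mem_univ _, hd, rfl⟩
  · refine absurd ?_ hd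
    simp only [hG, h.outside_D0 χ hd0, Finset.sum_const, Finset.card_univ, nsmul_eq_mul,
      ← Nat.card_eq_fintype_card, sub_self, zero_mul]

end Sums

end KleinCent

end CfsgLib.Recog.NonCA
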