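import Cfsg.Agent.Lib.Recog.NonCA.KleinChar.Coeff

/-!
# Norms, parities and degrees
-/

set_option autoImplicit false
set_option linter.unusedSectionVars false

namespace CfsgLib.Recog.NonCA

open CfsgLib.Char
open scoped ComplexConjugate

universe v w

theorem Two.of_natCast_even {m : ℕ} (h : Even m) : Two (m : ℂ) := by
  obtain ⟨k, rfl⟩ := h
  exact ⟨k, isIntegral_natCast k, by push_cast; ring⟩

theorem irr_degree_nat {X : Type v} [Group X] (χ : Cfsg.IrrCharacter X) :
    ∃ d : ℕ, 0 < d ∧ (χ : X → ℂ) 1 = d :=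
  ⟨_, CfsgLib.BlockB.irr_degree_pos χ, (CfsgLib.BlockB.irr_degree_cast χ).symm⟩

/-- An integral vector of norm four orthogonal to a positive vector. -/
theorem four_cases {ι : Type w} [Fintype ι] [DecidableEq ι] (c d : ι → ℤ) (hd : ∀ i, 0 < d i)
    (hn : ∑ i, c i * c i = 4) (ho : ∑ i, d i * c i = 0) :
    (∀ i, c i = 0 ∨ c i = 1 ∨ c i = -1) ∧ (Finset.univ.filter (fun i => c i ≠ 0)).card = 4 := by
  have h1 : ∀ i, c i = 0 ∨ c i = 1 ∨ c i = -1 := by
    intro i
    by_contra hc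
    have hle : c i * c i ≤ 4 := hn ▸ Finset.single_le_sum (fun j _ => mul_self_nonneg (c j))
      (Finset.mem_univ i)
    have hge : 4 ≤ c i * c i := by
      rcases (by omega : c i ≤ -2 ∨ 2 ≤ c i) with h | h <;> nlinarith
    have hrest : ∀ j ∈ Finset.univ.erase i, c j * c j = 0 :=
      (Finset.sum_eq_zero_iff_of_nonneg fun j _ => mul_self_nonneg (c j)).1 (by
        have := Finset.add_sum_erase _ (fun j => c j * c j) (Finset.mem_univ i)
        linarith)
    rw [← Finset.add_sum_erase _ _ (Finset.mem_univ i),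
      Finset.sum_eq_zero (fun j hj => by rw [mul_self_eq_zero.1 (hrest j hj), mul_zero]),
      add_zero] at ho
    rcases mul_eq_zero.1 ho with h | h
    · exact (hd i).ne' h
    · rw [h] at hge; norm_num at hge
  refine ⟨h1, ?_⟩
  have h2 : ∀ i, c i * c i = if c i ≠ 0 then 1 else 0 := fun i => by
    rcases h1 i with h | h | h <;> simp [h]
  rw [Finset.sum_congr rfl fun i _ => h2 i, Finset.sum_boole] at hn
  exact_mod_cast hn

/-- An integral vector of norm two. -/
theorem two_cases {ι : Type w} [Fintype ι] (c : ι → ℤ) (hn : ∑ i, c i * c i = 2) (i : ι) :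
    c i = 0 ∨ c i = 1 ∨ c i = -1 := by
  have hle : c i * c i ≤ 2 := hn ▸ Finset.single_le_sum (fun j _ => mul_self_nonneg (c j))
    (Finset.mem_univ i)
  by_contra hc
  rcases (by omega : c i ≤ -2 ∨ 2 ≤ c i) with h | h <;> nlinarith

namespace KleinCent

open scoped Classical

variable {X : Type v} [Group X] [Fintype X] {t u n : X} {F D : Subgroup X}
  (h : KleinCent t u n F D)
include h

theorem card_prod_image {Γ : Type w} [Group Γ] [Fintype Γ] (S : Finset X) (hS : ∀ w ∈ S, w ∈ h.W)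
    (ι : Γ →* X) (hinj : Function.Injective ι) (hK : ∀ γ, ι γ ∈ h.K) :
    ((S ×ˢ (Finset.univ : Finset Γ)).image fun p => p.1 * ι p.2).card = S.card * Nat.card Γ := by
  rw [Finset.card_image_of_injOn, Finset.card_product, Finset.card_univ, Nat.card_eq_fintype_card]
  rintro ⟨w, γ⟩ hp ⟨w', γ'⟩ hp' e
  simp only [Finset.coe_product, Set.mem_prod, Finset.mem_coe] at hp hp'
  have e' : w * ι γ = w' * ι γ' := e
  have h1 : w'⁻¹ * w = ι γ' * (ι γ)⁻¹ := by
    calc w'⁻¹ * w = w'⁻¹ * (w * ι γ) * (ι γ)⁻¹ := by group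
      _ = w'⁻¹ * (w' * ι γ') * (ι γ)⁻¹ := by rw [e']
      _ = ι γ' * (ι γ)⁻¹ := by group
  have h2 : w'⁻¹ * w = 1 := h.W_inter_K
    (by rw [h.W_inv (hS _ hp'.1)]; exact h.W_mul (hS _ hp'.1) (hS _ hp.1))
    (h1 ▸ mul_mem (hK γ') (inv_mem (hK γ)))
  have h3 : w' = w := inv_mul_eq_one.1 h2
  rw [h3, mul_right_inj] at e'
  exact Prod.ext h3.symm (hinj e')

theorem M_filter :
    (Finset.univ.filter fun g : X => g * t * g⁻¹ = t) =
      ((({1, t, u, t * u} : Finset X)) ×ˢ (Finset.univ : Finset h.K)).image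
        fun p => p.1 * h.K.subtype p.2 := by
  ext g
  simp only [Finset.mem_filter, Finset.mem_univ, true_and, and_true, Finset.mem_image,
    Finset.mem_product, Finset.mem_insert, Finset.mem_singleton, Prod.exists]
  rw [← h.mem_M_conj, h.mem_M]
  constructor
  · rintro ⟨w, hw, k, hk, rfl⟩
    exact ⟨w, ⟨k, hk⟩, h.mem_W.1 hw, rfl⟩
  · rintro ⟨w, k, hw, rfl⟩
    exact ⟨w, h.mem_W.2 hw, k, k.2, rfl⟩

theorem card_W : ({1, t, u, t * u} : Finset X).card = 4 := by
  have h1 : (1 : X) ≠ t := Ne.symm h.t_ne_one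
  have h2 : (1 : X) ≠ u := Ne.symm h.u_ne_one
  have h3 : (1 : X) ≠ t * u := fun e => h.hne (by
    calc t = t * u * u := by rw [mul_assoc, h.uu', mul_one]
      _ = u := by rw [← e, one_mul])
  have h4 : t ≠ t * u := fun e => h.u_ne_one (mul_left_cancel ((mul_one t).trans e)).symm
  have h5 : u ≠ t * u := fun e => h.t_ne_one (mul_right_cancel ((one_mul u).trans e)).symm
  simp [h1, h2, h3, h4, h5, h.hne]

theorem card_M : (Finset.univ.filter fun g : X => g * t * g⁻¹ = t).card =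
    4 * (Nat.card F * Nat.card D) := by
  rw [h.M_filter, h.card_prod_image _ (fun w hw => ?_) _ h.K.subtype_injective (fun k => k.2),
    h.card_W, h.card_K]
  simpa [h.mem_W] using hw

theorem lamK_injective {l l' : D →* ℂˣ} (e : h.lamK l = h.lamK l') : l = l' := by
  refine MonoidHom.ext fun d => ?_
  have hd : ((⟨d, h.D_le_K d.2⟩ : h.K) : X) = (1 : X) * (d : X) := (one_mul _).symm
  have := DFunLike.congr_fun e ⟨d, h.D_le_K d.2⟩
  rwa [h.lamK_apply (one_mem _) hd, h.lamK_apply (one_mem _) hd] at this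

theorem K_normal {g : X} (hg : g * t * g⁻¹ = t) (k : h.K) :
    ∃ k' : h.K, h.K.subtype k' = g * h.K.subtype k * g⁻¹ := by
  obtain ⟨f, hf, d, hd, e⟩ := h.mem_K.1 k.2
  obtain ⟨f', hf', e'⟩ := h.M_K (h.mem_M_conj.2 hg) hf hd
  exact ⟨⟨g * k * g⁻¹, by rw [e, e']; exact h.FD_mem_K hf' hd⟩, rfl⟩

variable [Fintype (Cfsg.IrrCharacter X)]

theorem cl_norm (l l' : D →* ℂˣ) :
    ∑ χ : Cfsg.IrrCharacter X, h.cl l χ * h.cl l' χ = if l = l' then 4 else 0 := by
  have hn := cf_norm h.ht h.K.subtype_injective h.K_comm h.odd_K (h.lamK l) (h.lamK l')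
    (fun g hg k => h.K_normal hg k)
  simp only [← h.cl_cast, map_intCast] at hn
  apply Int.cast_injective (α := ℂ)
  push_cast
  rw [hn]
  by_cases e : l = l'
  · subst e
    have hside : ∀ g : X, g * t * g⁻¹ = t → ∀ γ γ' : h.K,
        h.K.subtype γ' = g * h.K.subtype γ * g⁻¹ → h.lamK l γ' = h.lamK l γ := by
      intro g hg γ γ' e
      obtain ⟨f, hf, d, hd, ek⟩ := h.mem_K.1 γ.2
      obtain ⟨f', hf', e'⟩ := h.M_K (h.mem_M_conj.2 hg) hf hd
      have ek' : (γ' : X) = f' * ((⟨d, hd⟩ : D) : X) := by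
        simp only [Subgroup.coe_subtype] at e; rw [ek, e'] at e
        exact e
      rw [h.lamK_apply hf' ek', h.lamK_apply hf (d := ⟨d, hd⟩) ek]
    rw [Finset.filter_congr (q := fun g : X => g * t * g⁻¹ = t) (fun g _ => and_iff_left_of_imp
      (hside g)), h.card_M, ← h.card_K]
    · rw [if_pos rfl]
      have : (Nat.card h.K : ℂ) ≠ 0 := natCard_ne_zero
      push_cast
      field_simp
  · rw [if_neg e, Finset.filter_eq_empty_iff.2]
    · simp
    · intro g _ hg
      apply e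
      refine MonoidHom.ext fun d => ?_
      obtain ⟨f', hf', e'⟩ := h.M_K (h.mem_M_conj.2 hg.1) (one_mem F) d.2
      have := hg.2 ⟨d, h.D_le_K d.2⟩ ⟨f' * d, h.FD_mem_K hf' d.2⟩ (by
        simp only [Subgroup.coe_subtype]
        rw [← e', one_mul])
      rw [h.lamK_apply hf' (d := d) rfl, h.lamK_apply (one_mem F) (d := d) (one_mul _).symm] at this
      exact this.symm

theorem cl_degree (l : D →* ℂˣ) :
    ∑ χ : Cfsg.IrrCharacter X, (χ : X → ℂ) 1 * (h.cl l χ : ℂ) = 0 := by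
  simp only [h.cl_cast]
  exact cf_degree h.ht h.K.subtype_injective h.K_comm h.odd_K _

theorem cl_cases (l : D →* ℂˣ) :
    (∀ χ, h.cl l χ = 0 ∨ h.cl l χ = 1 ∨ h.cl l χ = -1) ∧
      (Finset.univ.filter fun χ => h.cl l χ ≠ 0).card = 4 := by
  choose d hd0 hd using fun χ : Cfsg.IrrCharacter X => irr_degree_nat χ
  refine four_cases (fun χ => h.cl l χ) (fun χ => (d χ : ℤ)) (fun χ => by exact_mod_cast hd0 χ)
    (by rw [h.cl_norm, if_pos rfl]) ?_
  apply Int.cast_injective (α := ℂ)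
  push_cast
  simp only [← hd]
  exact h.cl_degree l

theorem stab_psi {p : F →* ℂˣ} (hp : p ≠ 1) {w a e : X} (hw : w ∈ h.W) (ha : a ∈ F) (he : e ∈ D)
    (hs : ∀ f f' : F, (f' : X) = w * (a * e) * f * (w * (a * e))⁻¹ → p f' = p f) :
    (w = 1 ∨ w = t) ∧ e ∈ h.D0 := by
  let cj : F → F := fun f => ⟨e * f * e⁻¹, h.hDF e he f f.2⟩
  have hconj : ∀ f : F,
      w * (a * e) * f * (w * (a * e))⁻¹ = w * (cj f : X) * w⁻¹ := by
    intro f
    have hb : a * (e * f * e⁻¹) * a⁻¹ = e * f * e⁻¹ := by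
      rw [h.hFcomm a ha _ (h.hDF e he f f.2), mul_inv_cancel_right]
    calc w * (a * e) * f * (w * (a * e))⁻¹ = w * (a * (e * f * e⁻¹) * a⁻¹) * w⁻¹ := by group
      _ = w * (cj f : X) * w⁻¹ := by rw [hb]
  have hfix : (∀ f, p (cj f) = p f) → e ∈ h.D0 := by
    intro hf
    by_contra he0
    apply hp
    refine MonoidHom.ext fun f => ?_
    obtain ⟨b, hb, eb⟩ := h.exists_conj_of_notMem he he0 f.2
    have e2 : f = ⟨b, hb⟩ * (cj ⟨b, hb⟩)⁻¹ := Subtype.ext (by
      calc (f : X) = f * e * e⁻¹ := (mul_inv_cancel_right _ _).symm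
        _ = b * e * b⁻¹ * e⁻¹ := by rw [eb]
        _ = b * (e * b * e⁻¹)⁻¹ := by group)
    rw [e2, map_mul, map_inv, hf, mul_inv_cancel, MonoidHom.one_apply]
  have hodd : Odd (Nat.card F) := h.hFodd
  rcases h.mem_W.1 hw with rfl | rfl | rfl | rfl
  · refine ⟨Or.inl rfl, hfix fun f => hs f (cj f) ?_⟩
    rw [hconj, one_mul, inv_one, mul_one]
  · refine ⟨Or.inr rfl, hfix fun f => hs f (cj f) ?_⟩
    rw [hconj, h.hFt _ (cj f).2, mul_inv_cancel_right]
  all_goals
    exfalso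
    have hinv : ∀ f, p (cj f) = (p f)⁻¹ := by
      intro f
      have := hs f (cj f)⁻¹ (by
        rw [hconj]
        first
        | rw [h.hFu _ (cj f).2, Subgroup.coe_inv]
        | (have e3 : t * u * (cj f : X) * (t * u)⁻¹ = t * (u * (cj f : X) * u⁻¹) * t⁻¹ := by group
           rw [e3, h.hFu _ (cj f).2, h.hFt _ (inv_mem (cj f).2), mul_inv_cancel_right,
            Subgroup.coe_inv]))
      rw [map_inv] at this
      rw [← this, inv_inv]
    have he2 : e * e ∈ h.D0 := by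
      by_contra he0
      apply hp
      refine MonoidHom.ext fun f => ?_
      obtain ⟨b, hb, eb⟩ := h.exists_conj_of_notMem (mul_mem he he) he0 f.2
      have e2 : f = ⟨b, hb⟩ * (cj (cj ⟨b, hb⟩))⁻¹ := Subtype.ext (by
        calc (f : X) = f * (e * e) * (e * e)⁻¹ := (mul_inv_cancel_right _ _).symm
          _ = b * (e * e) * b⁻¹ * (e * e)⁻¹ := by rw [eb]
          _ = b * (e * (e * b * e⁻¹) * e⁻¹)⁻¹ := by simp [mul_assoc])
      rw [e2, map_mul, map_inv, hinv, hinv, inv_inv, mul_inv_cancel, MonoidHom.one_apply]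
    have he0 : e ∈ h.D0 := mem_of_sq_mem h.hDodd he he2
    refine hp (hom_eq_one_of_sq hodd fun f => ?_)
    have e2 : cj f = f := Subtype.ext (by
      show e * f * e⁻¹ = f
      rw [(h.mem_D0.1 he0).2 f f.2, mul_inv_cancel_right])
    have := hinv f
    rw [e2] at this
    nth_rewrite 2 [this]
    exact mul_inv_cancel _

/-- The stabiliser of a nonprincipal character of `F`. -/
theorem stab_filter {p : F →* ℂˣ} (hp : p ≠ 1) :
    (Finset.univ.filter fun g : X => g * t * g⁻¹ = t ∧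
      ∀ f f' : F, (f' : X) = g * f * g⁻¹ → p f' = p f) =
      ((({1, t} : Finset X)) ×ˢ (Finset.univ : Finset (F × h.D0))).image
        fun q => q.1 * h.iA q.2 := by
  ext g
  simp only [Finset.mem_filter, Finset.mem_univ, true_and, and_true, Finset.mem_image,
    Finset.mem_product, Finset.mem_insert, Finset.mem_singleton]
  constructor
  · rintro ⟨hg, hs⟩
    obtain ⟨w, hw, a, ha, e, he, rfl⟩ := h.M_decomp (h.mem_M_conj.2 hg)
    obtain ⟨hw', he'⟩ := h.stab_psi hp hw ha he hs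
    exact ⟨(w, (⟨a, ha⟩, ⟨e, he'⟩)), hw', rfl⟩
  · rintro ⟨⟨w, a, e⟩, hw, rfl⟩
    have hwW : w ∈ h.W := by
      rcases hw with hw | hw <;> dsimp only at hw <;> rw [hw]
      · exact h.one_mem_W
      · exact h.mem_W.2 (Or.inr (Or.inl rfl))
    refine ⟨h.mem_M_conj.1 (mul_mem (h.W_le_M hwW) (h.K_le_M (h.iA_mem _))), fun f f' ef => ?_⟩
    have hc : (a : X) * e * f = f * (a * e) := by
      rw [mul_assoc, (h.mem_D0.1 e.2).2 f f.2, ← mul_assoc, h.hFcomm a a.2 f f.2, mul_assoc]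
    have e1 : (f' : X) = w * f * w⁻¹ := by
      rw [ef, h.iA_apply]
      calc w * ((a : X) * e) * f * (w * ((a : X) * e))⁻¹
          = w * ((a : X) * e * f) * ((a : X) * e)⁻¹ * w⁻¹ := by group
        _ = w * f * w⁻¹ := by rw [hc]; group
    rcases hw with hw | hw
    · dsimp only at hw e1
      rw [hw, one_mul, inv_one, mul_one] at e1
      rw [Subtype.ext e1]
    · dsimp only at hw e1
      rw [hw, h.hFt f f.2, mul_inv_cancel_right] at e1
      rw [Subtype.ext e1]

theorem card_stab {p : F →* ℂˣ} (hp : p ≠ 1) :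
    (Finset.univ.filter fun g : X => g * t * g⁻¹ = t ∧
      ∀ f f' : F, (f' : X) = g * f * g⁻¹ → p f' = p f).card =
      2 * (Nat.card F * Nat.card h.D0) := by
  rw [h.stab_filter hp, h.card_prod_image _ (fun w hw => ?_) _ h.iA_inj h.iA_mem, Nat.card_prod,
    Finset.card_pair (Ne.symm h.t_ne_one)]
  simp only [Finset.mem_insert, Finset.mem_singleton] at hw
  rcases hw with rfl | rfl
  · exact h.one_mem_W
  · exact h.mem_W.2 (Or.inr (Or.inl rfl))

theorem A_normal {g : X} (hg : g * t * g⁻¹ = t) (γ : F × h.D0) :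
    ∃ γ' : F × h.D0, h.iA γ' = g * h.iA γ * g⁻¹ := by
  obtain ⟨f', hf', e'⟩ := h.M_K (h.mem_M_conj.2 hg) γ.1.2 (h.D0_le γ.2.2)
  exact ⟨(⟨f', hf'⟩, γ.2), by rw [h.iA_apply, h.iA_apply, e']⟩

theorem ca_norm {p : F →* ℂˣ} (hp : p ≠ 1) (q : h.D0 →* ℂˣ) :
    ∑ χ : Cfsg.IrrCharacter X, h.ca p q χ * h.ca p q χ = 2 := by
  have hn := cf_norm h.ht h.iA_inj h.A_comm h.odd_A (h.lA p q) (h.lA p q)
    (fun g hg γ => h.A_normal hg γ)
  simp only [← h.ca_cast, map_intCast] at hn
  apply Int.cast_injective (α := ℂ)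
  push_cast
  rw [hn, Finset.filter_congr (q := fun g : X => g * t * g⁻¹ = t ∧
      ∀ f f' : F, (f' : X) = g * f * g⁻¹ → p f' = p f) (fun g _ => and_congr_right fun hg => ?_),
    h.card_stab hp, Nat.card_prod]
  · have h1 : (Nat.card F : ℂ) ≠ 0 := natCard_ne_zero
    have h2 : (Nat.card h.D0 : ℂ) ≠ 0 := natCard_ne_zero
    push_cast
    field_simp
  · constructor
    · intro hl f f' e
      have := hl (f, 1) (f', 1) (by simp only [h.iA_apply, OneMemClass.coe_one, mul_one]; exact e)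
      simpa [h.lA_apply] using this
    · intro hl γ γ' e
      obtain ⟨f', hf', e'⟩ := h.M_K (h.mem_M_conj.2 hg) γ.1.2 (h.D0_le γ.2.2)
      rw [h.iA_apply, h.iA_apply, e'] at e
      obtain ⟨e1, e2⟩ := h.FD_ext γ'.1.2 hf' (h.D0_le γ'.2.2) (h.D0_le γ.2.2) e
      have e1' : (γ'.1 : X) = g * γ.1 * g⁻¹ := by
        obtain ⟨w, hw, a, ha, d, hd, rfl⟩ := h.M_decomp (h.mem_M_conj.2 hg)
        have e3 : w * (a * d) * (γ.2 : X) * (w * (a * d))⁻¹ = γ.2 := by
          have hd2 := h.D0_le γ.2.2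
          calc w * (a * d) * (γ.2 : X) * (w * (a * d))⁻¹
              = w * (a * (d * γ.2 * d⁻¹) * a⁻¹) * w⁻¹ := by group
            _ = γ.2 := by
              rw [h.hDcomm d hd _ hd2, mul_inv_cancel_right, ← (h.mem_D0.1 γ.2.2).2 a ha,
                mul_inv_cancel_right, h.W_comm_D hw hd2, mul_inv_cancel_right]
        rw [e1]
        have e4 : f' * (γ.2 : X) =
            w * (a * d) * γ.1 * (w * (a * d))⁻¹ *
              (w * (a * d) * (γ.2 : X) * (w * (a * d))⁻¹) := by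
          rw [← e']; group
        rw [e3, mul_left_inj] at e4
        exact e4
      rw [h.lA_apply, h.lA_apply, hl γ.1 γ'.1 e1', show γ'.2 = γ.2 from Subtype.ext e2]

theorem ca_cases {p : F →* ℂˣ} (hp : p ≠ 1) (q : h.D0 →* ℂˣ) (χ : Cfsg.IrrCharacter X) :
    h.ca p q χ = 0 ∨ h.ca p q χ = 1 ∨ h.ca p q χ = -1 :=
  two_cases (fun χ => h.ca p q χ) (h.ca_norm hp q) χ

theorem ca_inv (p : F →* ℂˣ) (q : h.D0 →* ℂˣ) (χ : Cfsg.IrrCharacter X) :
    h.ca p⁻¹ q χ = h.ca p q χ := by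
  apply Int.cast_injective (α := ℂ)
  apply mul_left_cancel₀ (mul_ne_zero (natCard_ne_zero (G := F)) (natCard_ne_zero (G := h.D0)))
  rw [h.ca_eq, h.ca_eq]
  refine Finset.sum_congr rfl fun d _ => Fintype.sum_equiv (Equiv.inv F) _ _ fun f => ?_
  rw [Equiv.inv_apply, Subgroup.coe_inv, MonoidHom.inv_apply, map_inv]
  congr 1
  have e : t * ((f : X)⁻¹ * d) = u * (t * ((f : X) * d)) * u⁻¹ := by
    rw [← h.hFu f f.2]
    calc t * (u * f * u⁻¹ * d) = (t * u) * f * (u⁻¹ * d) := by group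
      _ = (u * t) * f * (d * u⁻¹) := by
        rw [h.htu, h.uinv, h.hDu d (h.D0_le d.2)]
      _ = u * (t * ((f : X) * d)) * u⁻¹ := by group
  rw [e]
  exact (irr_isClassFunction χ.2 _ u).symm

/-- The index `e = |D : D₀|`. -/
noncomputable def idx (_h : KleinCent t u n F D) : ℕ := Nat.card D / Nat.card _h.D0

theorem idx_mul : h.idx * Nat.card h.D0 = Nat.card D :=
  Nat.div_mul_cancel (Subgroup.card_dvd_of_le h.D0_le)

theorem idx_odd : Odd h.idx :=
  (Nat.odd_mul.1 (h.idx_mul.symm ▸ h.hDodd)).1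

theorem one_lt_idx (hD : D ≠ ⊥) : 1 < h.idx := by
  by_contra hlt
  have h1 : h.idx = 1 := by
    have := h.idx_odd.pos
    omega
  have h2 : h.D0 = D := Subgroup.eq_of_le_of_card_ge h.D0_le (by
    have := h.idx_mul
    rw [h1, one_mul] at this
    omega)
  refine hD ((Subgroup.eq_bot_iff_forall _).2 fun d hd => ?_)
  have a1 : d ∈ h.D0 := by rw [h2]; exact hd
  have a2 : n * d * n⁻¹ ∈ h.D0 := by rw [h2]; exact h.hDn d hd
  exact h.hD0 d hd (h.mem_D0.1 a1).2 (h.mem_D0.1 a2).2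

theorem F_ne_bot (hD : D ≠ ⊥) : F ≠ ⊥ := by
  intro hF
  refine hD ((Subgroup.eq_bot_iff_forall _).2 fun d hd => h.hD0 d hd ?_ ?_) <;>
  · intro a ha
    rw [hF, Subgroup.mem_bot] at ha
    rw [ha, mul_one, one_mul]

variable [Fintype (F →* ℂˣ)] [Fintype (h.D0 →* ℂˣ)] [Fintype (D →* ℂˣ)]

theorem cr_cl_even (l : D →* ℂˣ) (χ : Cfsg.IrrCharacter X) : Even (h.cr l χ - h.cl l χ) := by
  have h1 := h.cr_sub_cl l χ
  have h2 : Two (∑ p ∈ Finset.univ.erase (1 : F →* ℂˣ),
      (h.ca p (l.comp (Subgroup.inclusion h.D0_le)) χ : ℂ)) := by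
    refine two_sum_invol _ (fun p => p⁻¹) ?_ (fun p _ => inv_inv p) ?_
      (fun p _ => by rw [h.ca_inv]) (fun p _ => isIntegral_intCast _)
    · intro p hp
      simp only [Finset.mem_erase, Finset.mem_univ, and_true, ne_eq, inv_eq_one] at hp ⊢
      exact hp
    · intro p hp e
      refine (Finset.mem_erase.1 hp).1 (hom_eq_one_of_sq h.hFodd fun f => ?_)
      have := DFunLike.congr_fun e f
      rw [MonoidHom.inv_apply] at this
      nth_rewrite 2 [← this]
      exact mul_inv_cancel _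
  refine Two.even (Two.cancel_odd (m := (h.idx : ℤ)) ((Int.odd_coe_nat _).2 h.idx_odd)
    (isIntegral_intCast _) ?_)
  have e : ((h.idx : ℤ) : ℂ) * ((h.cr l χ - h.cl l χ : ℤ) : ℂ) =
      ∑ p ∈ Finset.univ.erase (1 : F →* ℂˣ),
        (h.ca p (l.comp (Subgroup.inclusion h.D0_le)) χ : ℂ) := by
    apply mul_left_cancel₀ (natCard_ne_zero (G := h.D0))
    rw [← h1, ← h.idx_mul]
    push_cast
    ring
  rw [e]; exact h2

omit [Fintype (F →* ℂˣ)] [Fintype (h.D0 →* ℂˣ)] [Fintype (D →* ℂˣ)] in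
theorem cr_sig_even (l : D →* ℂˣ) (χ : Cfsg.IrrCharacter X) :
    Even (h.cr l χ - h.cr (l.comp h.sig) χ) := by
  obtain ⟨k, m, hk, hm⟩ := cf_add_inner h.ht h.D_comm l χ
  obtain ⟨k', m', hk', hm'⟩ := cf_add_inner (t := u) h.hu (ι := D.subtype)
    (fun d => h.hDu d d.2) l χ
  have hmm : m = m' := by exact_mod_cast hm.symm.trans hm'
  have hkey : cf u D.subtype l (χ : X → ℂ) = h.cr (l.comp h.sig) χ := by
    rw [h.cr_cast, cf, cf]
    congr 1
    refine (Fintype.sum_equiv h.sigEquiv _ _ fun d => ?_).symm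
    simp only [MonoidHom.comp_apply, Subgroup.coe_subtype]
    congr 1
    have e : (u : X) * (h.sigEquiv d : X) = n * (t * d) * n⁻¹ := by
      show u * (n * d * n⁻¹) = _
      refine (congrArg (· * (n * (d : X) * n⁻¹)) h.hn.1.symm).trans ?_
      group
    rw [e, irr_isClassFunction χ.2]
  refine ⟨k - k', Int.cast_injective (α := ℂ) ?_⟩
  push_cast
  rw [← hkey, h.cr_cast, hk, hk', hmm]
  ring

theorem cl_sig_even (l : D →* ℂˣ) (χ : Cfsg.IrrCharacter X) :
    Even (h.cl l χ - h.cl (l.comp h.sig) χ) := by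
  have h1 := h.cr_cl_even l χ
  have h2 := h.cr_sig_even l χ
  have h3 := h.cr_cl_even (l.comp h.sig) χ
  have e : h.cl l χ - h.cl (l.comp h.sig) χ = (h.cr l χ - h.cr (l.comp h.sig) χ)
      - (h.cr l χ - h.cl l χ) + (h.cr (l.comp h.sig) χ - h.cl (l.comp h.sig) χ) := by ring
  rw [e]
  exact (h2.sub h1).add h3

theorem cl_sig_ne_zero (l : D →* ℂˣ) (χ : Cfsg.IrrCharacter X) :
    h.cl (l.comp h.sig) χ ≠ 0 ↔ h.cl l χ ≠ 0 := by
  have := Int.even_iff.1 (h.cl_sig_even l χ)
  rcases (h.cl_cases l).1 χ with a | a | a <;>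
    rcases (h.cl_cases (l.comp h.sig)).1 χ with b | b | b <;> omega

omit [Fintype (F →* ℂˣ)] [Fintype (h.D0 →* ℂˣ)] [Fintype (D →* ℂˣ)] in
/-- `χ(1) + 3χ(t)` is divisible by four. -/
theorem deg_mod_four (χ : Cfsg.IrrCharacter X) :
    ∃ k : ℕ, (χ : X → ℂ) 1 + 3 * (χ : X → ℂ) t = 4 * (k : ℂ) := by
  let j : Subgroup.zpowers t × Subgroup.zpowers u →* X :=
    (Subgroup.zpowers t).subtype.noncommCoprod (Subgroup.zpowers u).subtype (fun a b => by
      obtain ⟨i, hi⟩ := Subgroup.mem_zpowers_iff.1 a.2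
      obtain ⟨i', hi'⟩ := Subgroup.mem_zpowers_iff.1 b.2
      show Commute (a : X) (b : X)
      rw [← hi, ← hi']
      exact Commute.zpow_zpow h.htu i i')
  obtain ⟨k, hk⟩ := classInner_isCharacter_nat (isCharacter_comp (irr_isCharacter χ.2) j)
    (isCharacter_one (G := Subgroup.zpowers t × Subgroup.zpowers u))
  refine ⟨k, ?_⟩
  have hp : ∀ {s : X}, orderOf s = 2 → ∀ g : Subgroup.zpowers s → ℂ,
      ∑ x, g x = g 1 + g ⟨s, Subgroup.mem_zpowers s⟩ := by
    intro s hs g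
    have h1 : (1 : Subgroup.zpowers s) ≠ ⟨s, Subgroup.mem_zpowers s⟩ := fun e => by
      have e' : s = 1 := (congrArg Subtype.val e).symm
      rw [e', orderOf_one] at hs
      norm_num at hs
    rw [← Finset.sum_pair h1]
    refine Finset.sum_congr (Finset.eq_univ_of_card _ ?_).symm fun _ _ => rfl
    rw [Finset.card_pair h1, ← Nat.card_eq_fintype_card, Nat.card_zpowers, hs]
  rw [classInner_def, Nat.card_prod, Nat.card_zpowers, Nat.card_zpowers, h.ht, h.hu,
    Fintype.sum_prod_type, hp h.ht, hp h.hu, hp h.hu] at hk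
  simp only [j, Function.comp_apply, MonoidHom.noncommCoprod_apply, Subgroup.coe_subtype,
    OneMemClass.coe_one, one_mul, mul_one, map_one] at hk
  have hcl := irr_isClassFunction χ.2
  have eu : (χ : X → ℂ) u = (χ : X → ℂ) t :=
    isClassFunction_isConj hcl (h.invol_conj h.hu).symm
  have etu : (χ : X → ℂ) (t * u) = (χ : X → ℂ) t := by
    have : t * u = n * u * n⁻¹ := h.hn.2.symm
    rw [this, hcl, eu]
  rw [eu, etu] at hk
  push_cast at hk
  linear_combination 4 * hk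

omit [Fintype (h.D0 →* ℂˣ)] [Fintype (D →* ℂˣ)] in
/-- Every nonprincipal character has degree at least `2e`. -/
theorem degree_ge [IsSimpleGroup X] (hD : D ≠ ⊥) (χ : Cfsg.IrrCharacter X)
    (hχ : (χ : X → ℂ) ≠ fun _ => 1) {d : ℕ} (hd : (χ : X → ℂ) 1 = d) : 2 * h.idx ≤ d := by
  have hnat : ∀ p : F →* ℂˣ, ∃ m : ℕ,
      Cfsg.classInner (fun f : F => (χ : X → ℂ) f) (fun f => (p f : ℂ)) = m := fun p =>
    classInner_isCharacter_nat (isCharacter_restrict (irr_isCharacter χ.2) F)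
      (irr_isCharacter (isIrrCharacter_linear p))
  choose m hm using hnat
  have hinv : ∀ b : F, ∑ p : F →* ℂˣ, (m p : ℂ) * (p b : ℂ) = (χ : X → ℂ) b := by
    intro b
    simp only [← hm, classInner_def]
    rw [Finset.sum_congr rfl fun p _ => by rw [mul_assoc, Finset.sum_mul], ← Finset.mul_sum,
      Finset.sum_comm, Finset.sum_congr rfl fun (a : F) _ => show
        ∑ p : F →* ℂˣ, (χ : X → ℂ) (a : X) * conj (p a : ℂ) * (p b : ℂ) =
          (χ : X → ℂ) (a : X) * ∑ p : F →* ℂˣ, conj (p (a * b⁻¹) : ℂ) from by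
        rw [Finset.mul_sum]
        refine Finset.sum_congr rfl fun p _ => ?_
        rw [map_mul, Units.val_mul, map_mul, mul_assoc, ← conj_hom_apply' p b],
      Finset.sum_congr rfl fun a _ => by rw [sum_all_hom h.F_hom_comm],
      Finset.sum_eq_single b]
    · rw [mul_inv_cancel, if_pos rfl]
      have : (Nat.card F : ℂ) ≠ 0 := natCard_ne_zero
      field_simp
    · intro a _ ha
      rw [if_neg fun e => ha (mul_inv_eq_one.1 e), mul_zero]
    · simp
  have hsum : ∑ p : F →* ℂˣ, m p = d := by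
    have h1 := hinv 1
    simp only [map_one, Units.val_one, mul_one, OneMemClass.coe_one] at h1
    rw [hd] at h1
    exact_mod_cast h1
  obtain ⟨p, hp, hmp⟩ : ∃ p : F →* ℂˣ, p ≠ 1 ∧ 0 < m p := by
    by_contra hne
    push Not at hne
    have hker : ∀ f : F, (χ : X → ℂ) f = (χ : X → ℂ) 1 := by
      intro f
      rw [← hinv f, hd, ← hsum, Nat.cast_sum]
      refine Finset.sum_congr rfl fun p _ => ?_
      by_cases hp : p = 1
      · simp [hp]
      · simp [Nat.le_zero.1 (hne p hp)]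
    obtain ⟨χf, k, ρ, hρ, hχf⟩ := χ
    subst hχf
    have htop : (MonoidHom.ker ρ : Subgroup X) = ⊤ := by
      refine (IsSimpleGroup.eq_bot_or_eq_top_of_normal _ inferInstance).resolve_left fun e => ?_
      obtain ⟨f, hf, hf1⟩ : ∃ f ∈ F, f ≠ 1 := by
        by_contra hc
        push Not at hc
        exact h.F_ne_bot hD ((Subgroup.eq_bot_iff_forall _).2 hc)
      have := (mem_ker_iff_char ρ f).2 (hker ⟨f, hf⟩)
      rw [e, Subgroup.mem_bot] at this
      exact hf1 this
    have hconst : ∀ g, ρ.character g = ρ.character 1 := fun g =>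
      (mem_ker_iff_char ρ g).1 (htop ▸ Subgroup.mem_top g)
    have h1 : Cfsg.classInner ρ.character ρ.character = 1 :=
      irr_classInner_self ⟨k, ρ, hρ, rfl⟩
    rw [classInner_def, Finset.sum_congr rfl fun g _ => by rw [hconst g]] at h1
    have hd' : ρ.character 1 = d := hd
    rw [hd', map_natCast, Finset.sum_const, Finset.card_univ, nsmul_eq_mul,
      ← Nat.card_eq_fintype_card, ← mul_assoc, inv_mul_cancel₀ natCard_ne_zero, one_mul] at h1
    have h2 : d = 1 := Nat.eq_one_of_mul_eq_one_left (show d * d = 1 by exact_mod_cast h1)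
    exact hχ (funext fun g => by
      show ρ.character g = 1
      rw [hconst, hd', h2, Nat.cast_one])
  set M : Finset X := Finset.univ.filter fun g : X => g * t * g⁻¹ = t with hM
  have hMF : ∀ g ∈ M, ∀ f : F, g * (f : X) * g⁻¹ ∈ F := fun g hg f =>
    h.M_F (h.mem_M_conj.2 (Finset.mem_filter.1 hg).2) f.2
  let act : M → (F →* ℂˣ) := fun g => MonoidHom.mk'
    (fun f : F => p ⟨(g : X) * f * (g : X)⁻¹, hMF g g.2 f⟩) (fun a b => by
      rw [← map_mul]; exact congrArg p (Subtype.ext (by simp [mul_assoc])))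
  have hact : ∀ (g : M) (f f' : F), (f' : X) = (g : X) * f * (g : X)⁻¹ → act g f = p f' :=
    fun g f f' e => congrArg p (Subtype.ext e.symm)
  have hmact : ∀ g : M, m (act g) = m p := by
    intro g
    apply Nat.cast_injective (R := ℂ)
    rw [← hm, ← hm, classInner_def, classInner_def]
    congr 1
    refine Fintype.sum_equiv
      ⟨fun f => ⟨(g : X) * f * (g : X)⁻¹, hMF g g.2 f⟩,
       fun f => ⟨(g : X)⁻¹ * f * ((g : X)⁻¹)⁻¹, h.M_F (inv_mem
        (h.mem_M_conj.2 (Finset.mem_filter.1 g.2).2)) f.2⟩,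
       fun f => Subtype.ext (by simp [mul_assoc]), fun f => Subtype.ext (by simp [mul_assoc])⟩
      _ _ fun f => ?_
    simp only [Equiv.coe_fn_mk]
    congr 1
    exact (irr_isClassFunction χ.2 _ _).symm
  have hfib : ∀ p' : F →* ℂˣ, (Finset.univ.filter fun g : M => act g = p').card ≤
      2 * (Nat.card F * Nat.card h.D0) := by
    intro p'
    rcases (Finset.univ.filter fun g : M => act g = p').eq_empty_or_nonempty with e | ⟨g0, hg0⟩
    · rw [e, Finset.card_empty]; exact Nat.zero_le _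
    rw [← h.card_stab hp]
    refine Finset.card_le_card_of_injOn (fun g : M => (g : X) * ((g0 : X))⁻¹) ?_
      fun a _ b _ e => Subtype.ext (mul_right_cancel e)
    intro g hg
    simp only [Finset.coe_filter, Finset.mem_univ, true_and, Set.mem_setOf_eq] at hg hg0 ⊢
    have hgM := h.mem_M_conj.2 (Finset.mem_filter.1 g.2).2
    have hg0M := h.mem_M_conj.2 (Finset.mem_filter.1 g0.2).2
    refine ⟨h.mem_M_conj.1 (mul_mem hgM (inv_mem hg0M)), fun f f' e => ?_⟩
    let f0 : F := ⟨(g0 : X)⁻¹ * f * (g0 : X), by simpa using h.M_F (inv_mem hg0M) f.2⟩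
    rw [← hact g f0 f' (by rw [e]; simp [f0, mul_assoc]),
      ← hact g0 f0 f (by simp [f0, mul_assoc]), hg,
      (Finset.mem_filter.1 hg0).2]
  have hcount : M.card * m p ≤ 2 * (Nat.card F * Nat.card h.D0) * d := by
    calc M.card * m p = ∑ g : M, m (act g) := by
          rw [Finset.sum_congr rfl fun g _ => hmact g, Finset.sum_const, Finset.card_univ,
            Fintype.card_coe, smul_eq_mul]
      _ = ∑ p' : F →* ℂˣ, ∑ g ∈ Finset.univ.filter (fun g : M => act g = p'), m (act g) :=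
          (Finset.sum_fiberwise _ _ _).symm
      _ ≤ ∑ p' : F →* ℂˣ, 2 * (Nat.card F * Nat.card h.D0) * m p' := by
          refine Finset.sum_le_sum fun p' _ => ?_
          rw [Finset.sum_congr rfl fun g hg => by rw [(Finset.mem_filter.1 hg).2], Finset.sum_const,
            smul_eq_mul]
          exact Nat.mul_le_mul_right _ (hfib p')
      _ = 2 * (Nat.card F * Nat.card h.D0) * d := by rw [← Finset.mul_sum, hsum]
  rw [hM, h.card_M, ← h.idx_mul] at hcount
  have hpos : 0 < 2 * (Nat.card F * Nat.card h.D0) := by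
    have := Nat.card_pos (α := F)
    have := Nat.card_pos (α := h.D0)
    positivity
  refine Nat.le_of_mul_le_mul_left ?_ hpos
  calc 2 * (Nat.card F * Nat.card h.D0) * (2 * h.idx)
      = 4 * (Nat.card F * (h.idx * Nat.card h.D0)) * 1 := by ring
    _ ≤ 4 * (Nat.card F * (h.idx * Nat.card h.D0)) * m p := Nat.mul_le_mul_left _ hmp
    _ ≤ _ := hcount
where
  conj_hom_apply' (p : F →* ℂˣ) (b : F) : conj ((p b⁻¹ : ℂˣ) : ℂ) = (p b : ℂ) := by
    rw [conj_hom_apply, map_inv, inv_inv]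

end KleinCent

end CfsgLib.Recog.NonCA
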