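import Cfsg.Agent.Lib.Recog.NonCA.Defs

/-!
# The Klein-four involution centraliser: group theory

Elements of `M = C(t)` are `w * (f * d)` with `w` in `⟨t,u⟩`, `f ∈ F`, `d ∈ D`.
-/

set_option autoImplicit false

namespace CfsgLib.Recog.NonCA

universe v

/-- A group element `x` with `x * x = 1` and an odd power equal to one is trivial. -/
theorem eq_one_of_sq_of_odd {X : Type v} [Group X] [Finite X] {H : Subgroup X}
    (hH : Odd (Nat.card H)) {x : X} (hx : x ∈ H) (h2 : x * x = 1) : x = 1 := by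
  have h1 : orderOf x ∣ 2 := orderOf_dvd_of_pow_eq_one (by rw [pow_two, h2])
  have h3 : orderOf x ∣ Nat.card H := by
    rw [← Subgroup.orderOf_mk x hx]; exact orderOf_dvd_natCard _
  have h4 : orderOf x ∣ 1 := by
    have h := Nat.dvd_gcd h1 h3
    have hg : Nat.gcd 2 (Nat.card H) = 1 := (Nat.coprime_two_left.2 hH)
    rwa [hg] at h
  exact orderOf_eq_one_iff.1 (Nat.dvd_one.1 h4)

/-- In a subgroup of odd order squaring is reversible inside any subgroup. -/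
theorem mem_of_sq_mem {X : Type v} [Group X] [Finite X] {H S : Subgroup X}
    (hH : Odd (Nat.card H)) {x : X} (hx : x ∈ H) (h2 : x * x ∈ S) : x ∈ S := by
  obtain ⟨m, hm⟩ := hH
  have h1 : x ^ Nat.card H = 1 := orderOf_dvd_iff_pow_eq_one.1 (by
    rw [← Subgroup.orderOf_mk x hx]; exact orderOf_dvd_natCard _)
  rw [hm, pow_succ, pow_mul, pow_two] at h1
  rw [eq_inv_of_mul_eq_one_right h1]
  exact inv_mem (pow_mem h2 m)

namespace KleinCent

variable {X : Type v} [Group X] {t u n : X} {F D : Subgroup X}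

local notation "cen(" x ")" => Subgroup.centralizer ({x} : Set X)

variable (h : KleinCent t u n F D)
include h

theorem tt : t * t = 1 := by
  have := pow_orderOf_eq_one t
  rwa [h.ht, pow_two] at this

theorem uu' : u * u = 1 := by
  have := pow_orderOf_eq_one u
  rwa [h.hu, pow_two] at this

theorem t_ne_one : t ≠ 1 := fun e => by simpa [e] using h.ht

theorem u_ne_one : u ≠ 1 := fun e => by simpa [e] using h.hu

theorem tinv : t⁻¹ = t := inv_eq_of_mul_eq_one_right h.tt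

theorem uinv : u⁻¹ = u := inv_eq_of_mul_eq_one_right h.uu'

/-- The four-group. -/
def W (_h : KleinCent t u n F D) : Set X := {1, t, u, t * u}

theorem mem_W {w : X} : w ∈ h.W ↔ w = 1 ∨ w = t ∨ w = u ∨ w = t * u := by
  simp [W]

theorem one_mem_W : (1 : X) ∈ h.W := h.mem_W.2 (Or.inl rfl)

theorem W_mul {v w : X} (hv : v ∈ h.W) (hw : w ∈ h.W) : v * w ∈ h.W := by
  have e1 : u * t = t * u := h.htu.symm
  have e2 : t * (t * u) = u := by rw [← mul_assoc, h.tt, one_mul]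
  have e3 : u * (t * u) = t := by rw [← mul_assoc, e1, mul_assoc, h.uu', mul_one]
  have e4 : t * u * t = u := by rw [mul_assoc, e1, e2]
  have e5 : t * u * u = t := by rw [mul_assoc, h.uu', mul_one]
  have e6 : t * u * (t * u) = 1 := by rw [mul_assoc, e3, h.tt]
  rcases h.mem_W.1 hv with rfl | rfl | rfl | rfl <;> rcases h.mem_W.1 hw with rfl | rfl | rfl | rfl <;>
    simp [h.mem_W, e1, e2, e3, e4, e5, e6, h.tt, h.uu']

theorem W_sq {w : X} (hw : w ∈ h.W) : w * w = 1 := by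
  rcases h.mem_W.1 hw with rfl | rfl | rfl | rfl
  · rw [one_mul]
  · exact h.tt
  · exact h.uu'
  · rw [mul_assoc, ← mul_assoc u t u, ← h.htu, mul_assoc t u u, h.uu', mul_one, h.tt]

theorem W_inv {w : X} (hw : w ∈ h.W) : w⁻¹ = w := inv_eq_of_mul_eq_one_right (h.W_sq hw)

theorem W_comm_t {w : X} (hw : w ∈ h.W) : w * t = t * w := by
  rcases h.mem_W.1 hw with rfl | rfl | rfl | rfl
  · rw [one_mul, mul_one]
  · rfl
  · exact h.htu.symm
  · rw [mul_assoc, ← h.htu]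

theorem W_comm_u {w : X} (hw : w ∈ h.W) : w * u = u * w := by
  rcases h.mem_W.1 hw with rfl | rfl | rfl | rfl
  · rw [one_mul, mul_one]
  · exact h.htu
  · rfl
  · rw [← mul_assoc, ← h.htu]

theorem W_comm_D {w d : X} (hw : w ∈ h.W) (hd : d ∈ D) : w * d = d * w := by
  rcases h.mem_W.1 hw with rfl | rfl | rfl | rfl
  · rw [one_mul, mul_one]
  · exact h.hDt d hd
  · exact h.hDu d hd
  · rw [mul_assoc, h.hDu d hd, ← mul_assoc, h.hDt d hd, mul_assoc]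

theorem W_F {w : X} (hw : w ∈ h.W) :
    (∀ f ∈ F, w * f * w⁻¹ = f) ∨ ∀ f ∈ F, w * f * w⁻¹ = f⁻¹ := by
  rcases h.mem_W.1 hw with rfl | rfl | rfl | rfl
  · exact Or.inl fun f _ => by group
  · exact Or.inl fun f hf => by rw [h.hFt f hf]; group
  · exact Or.inr h.hFu
  · refine Or.inr fun f hf => ?_
    have e : t * u * f * (t * u)⁻¹ = t * (u * f * u⁻¹) * t⁻¹ := by group
    rw [e, h.hFu f hf, h.hFt _ (inv_mem hf)]
    group

theorem W_F_mem {w f : X} (hw : w ∈ h.W) (hf : f ∈ F) : w * f * w⁻¹ ∈ F := by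
  rcases h.W_F hw with e | e <;> rw [e f hf]
  · exact hf
  · exact inv_mem hf

theorem D_conj_inv {d f : X} (hd : d ∈ D) (hf : f ∈ F) : d⁻¹ * f * d ∈ F := by
  simpa using h.hDF d⁻¹ (inv_mem hd) f hf

theorem mul_FD {f f' d d' : X} :
    f * d * (f' * d') = (f * (d * f' * d⁻¹)) * (d * d') := by group

theorem FD_ext {f f' d d' : X} (hf : f ∈ F) (hf' : f' ∈ F) (hd : d ∈ D) (hd' : d' ∈ D)
    (e : f * d = f' * d') : f = f' ∧ d = d' := by
  have h1 : f'⁻¹ * f = d' * d⁻¹ := by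
    calc f'⁻¹ * f = f'⁻¹ * (f * d) * d⁻¹ := by group
      _ = f'⁻¹ * (f' * d') * d⁻¹ := by rw [e]
      _ = d' * d⁻¹ := by group
  have h2 : f'⁻¹ * f ∈ F ⊓ D :=
    Subgroup.mem_inf.2 ⟨mul_mem (inv_mem hf') hf, h1 ▸ mul_mem hd' (inv_mem hd)⟩
  rw [h.hdisj, Subgroup.mem_bot] at h2
  have h3 : f = f' := (inv_mul_eq_one.1 h2).symm
  exact ⟨h3, by rwa [h3, mul_right_inj] at e⟩

/-- `K = F D`. -/
def K (_h : KleinCent t u n F D) : Subgroup X where
  carrier := {x | ∃ f ∈ F, ∃ d ∈ D, x = f * d}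
  one_mem' := ⟨1, one_mem _, 1, one_mem _, (one_mul 1).symm⟩
  mul_mem' := by
    rintro _ _ ⟨f, hf, d, hd, rfl⟩ ⟨f', hf', d', hd', rfl⟩
    exact ⟨_, mul_mem hf (_h.hDF d hd f' hf'), _, mul_mem hd hd', _h.mul_FD⟩
  inv_mem' := by
    rintro _ ⟨f, hf, d, hd, rfl⟩
    exact ⟨_, _h.D_conj_inv hd (inv_mem hf), d⁻¹, inv_mem hd, by group⟩

theorem mem_K {x : X} : x ∈ h.K ↔ ∃ f ∈ F, ∃ d ∈ D, x = f * d := Iff.rfl

theorem FD_mem_K {f d : X} (hf : f ∈ F) (hd : d ∈ D) : f * d ∈ h.K := ⟨f, hf, d, hd, rfl⟩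

theorem F_le_K : F ≤ h.K := fun f hf => ⟨f, hf, 1, one_mem _, (mul_one f).symm⟩

theorem D_le_K : D ≤ h.K := fun d hd => ⟨1, one_mem _, d, hd, (one_mul d).symm⟩

theorem card_K [Finite X] : Nat.card h.K = Nat.card F * Nat.card D := by
  rw [← Nat.card_prod]
  refine (Nat.card_congr (Equiv.ofBijective
    (fun p : F × D => (⟨(p.1 : X) * p.2, h.FD_mem_K p.1.2 p.2.2⟩ : h.K)) ⟨?_, ?_⟩)).symm
  · rintro ⟨f, d⟩ ⟨f', d'⟩ e
    obtain ⟨e1, e2⟩ := h.FD_ext f.2 f'.2 d.2 d'.2 (congrArg Subtype.val e)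
    exact Prod.ext (Subtype.ext e1) (Subtype.ext e2)
  · rintro ⟨x, f, hf, d, hd, rfl⟩
    exact ⟨(⟨f, hf⟩, ⟨d, hd⟩), rfl⟩

theorem odd_K [Finite X] : Odd (Nat.card h.K) := by
  rw [h.card_K]; exact h.hFodd.mul h.hDodd

theorem W_K {w k : X} (hw : w ∈ h.W) (hk : k ∈ h.K) : w * k * w⁻¹ ∈ h.K := by
  obtain ⟨f, hf, d, hd, rfl⟩ := h.mem_K.1 hk
  have e : w * (f * d) * w⁻¹ = (w * f * w⁻¹) * d := by
    calc w * (f * d) * w⁻¹ = (w * f * w⁻¹) * (w * d * w⁻¹) := by group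
      _ = (w * f * w⁻¹) * d := by rw [h.W_comm_D hw hd]; group
  rw [e]
  exact h.FD_mem_K (h.W_F_mem hw hf) hd

theorem W_inter_K [Finite X] {w : X} (hw : w ∈ h.W) (hk : w ∈ h.K) : w = 1 :=
  eq_one_of_sq_of_odd h.odd_K hk (h.W_sq hw)

/-- The centraliser `M = C(t)`, as a set of products. -/
def M (_h : KleinCent t u n F D) : Subgroup X where
  carrier := {x | ∃ w ∈ _h.W, ∃ k ∈ _h.K, x = w * k}
  one_mem' := ⟨1, _h.one_mem_W, 1, one_mem _, (one_mul 1).symm⟩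
  mul_mem' := by
    rintro _ _ ⟨w, hw, k, hk, rfl⟩ ⟨w', hw', k', hk', rfl⟩
    refine ⟨w * w', _h.W_mul hw hw', (w'⁻¹ * k * w') * k', mul_mem ?_ hk', by group⟩
    have := _h.W_K hw' hk
    rwa [_h.W_inv hw'] at this ⊢
  inv_mem' := by
    rintro _ ⟨w, hw, k, hk, rfl⟩
    exact ⟨w, hw, w * k⁻¹ * w⁻¹, _h.W_K hw (inv_mem hk), by
      rw [mul_inv_rev, _h.W_inv hw, ← mul_assoc, ← mul_assoc, _h.W_sq hw, one_mul]⟩

theorem mem_M {x : X} : x ∈ h.M ↔ ∃ w ∈ h.W, ∃ k ∈ h.K, x = w * k := Iff.rfl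

theorem K_le_M : h.K ≤ h.M := fun k hk => ⟨1, h.one_mem_W, k, hk, (one_mul k).symm⟩

theorem W_le_M {w : X} (hw : w ∈ h.W) : w ∈ h.M := ⟨w, hw, 1, one_mem _, (mul_one w).symm⟩

theorem cen_t : cen(t) = h.M := by
  refine le_antisymm ?_ ?_
  · rw [h.hcent]
    refine sup_le (sup_le (sup_le ?_ ?_) (h.F_le_K.trans h.K_le_M)) (h.D_le_K.trans h.K_le_M)
    · rw [Subgroup.zpowers_le]; exact h.W_le_M (h.mem_W.2 (Or.inr (Or.inl rfl)))
    · rw [Subgroup.zpowers_le]; exact h.W_le_M (h.mem_W.2 (Or.inr (Or.inr (Or.inl rfl))))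
  · rintro _ ⟨w, hw, _, ⟨f, hf, d, hd, rfl⟩, rfl⟩
    rw [Subgroup.mem_centralizer_singleton_iff]
    have a : Commute t (w * (f * d)) :=
      ((show Commute t w from (h.W_comm_t hw).symm)).mul_right
        ((show Commute t f from h.hFt f hf).mul_right (show Commute t d from h.hDt d hd))
    exact a.symm.eq

theorem mem_M_iff {x : X} : x ∈ h.M ↔ x * t = t * x := by
  rw [← h.cen_t, Subgroup.mem_centralizer_singleton_iff]

theorem mem_M_conj {x : X} : x ∈ h.M ↔ x * t * x⁻¹ = t := by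
  rw [h.mem_M_iff, mul_inv_eq_iff_eq_mul]

theorem t_mem_M : t ∈ h.M := h.W_le_M (h.mem_W.2 (Or.inr (Or.inl rfl)))

theorem u_mem_W : u ∈ h.W := h.mem_W.2 (Or.inr (Or.inr (Or.inl rfl)))

theorem M_decomp {x : X} (hx : x ∈ h.M) :
    ∃ w ∈ h.W, ∃ f ∈ F, ∃ d ∈ D, x = w * (f * d) := by
  obtain ⟨w, hw, _, ⟨f, hf, d, hd, rfl⟩, rfl⟩ := h.mem_M.1 hx
  exact ⟨w, hw, f, hf, d, hd, rfl⟩

theorem M_F {g f : X} (hg : g ∈ h.M) (hf : f ∈ F) : g * f * g⁻¹ ∈ F := by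
  obtain ⟨w, hw, a, ha, d, hd, rfl⟩ := h.M_decomp hg
  have e : w * (a * d) * f * (w * (a * d))⁻¹ = w * (a * (d * f * d⁻¹) * a⁻¹) * w⁻¹ := by group
  rw [e]
  exact h.W_F_mem hw (mul_mem (mul_mem ha (h.hDF d hd f hf)) (inv_mem ha))

/-- `M` acts on `K = FD` and fixes the `D`-part. -/
theorem M_K {g f d : X} (hg : g ∈ h.M) (hf : f ∈ F) (hd : d ∈ D) :
    ∃ f' ∈ F, g * (f * d) * g⁻¹ = f' * d := by
  obtain ⟨w, hw, a, ha, e, he, rfl⟩ := h.M_decomp hg
  refine ⟨w * (a * (e * f * e⁻¹) * (d * a⁻¹ * d⁻¹)) * w⁻¹, h.W_F_mem hw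
    (mul_mem (mul_mem ha (h.hDF e he f hf)) (h.hDF d hd _ (inv_mem ha))), ?_⟩
  calc w * (a * e) * (f * d) * (w * (a * e))⁻¹
      = w * (a * (e * f * e⁻¹) * ((e * d * e⁻¹) * a⁻¹)) * w⁻¹ := by group
    _ = w * (a * (e * f * e⁻¹) * (d * a⁻¹)) * w⁻¹ := by rw [h.hDcomm e he d hd]; group
    _ = w * (a * (e * f * e⁻¹) * (d * a⁻¹ * d⁻¹)) * w⁻¹ * (w * d * w⁻¹) := by group
    _ = w * (a * (e * f * e⁻¹) * (d * a⁻¹ * d⁻¹)) * w⁻¹ * d := by
      rw [h.W_comm_D hw hd]; group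

/-- The elements of `D` centralising `F`. -/
def D0 (_h : KleinCent t u n F D) : Subgroup X := D ⊓ Subgroup.centralizer (F : Set X)

theorem mem_D0 {d : X} : d ∈ h.D0 ↔ d ∈ D ∧ ∀ a ∈ F, d * a = a * d := by
  rw [D0, Subgroup.mem_inf, Subgroup.mem_centralizer_iff]
  exact and_congr_right fun _ => ⟨fun e a ha => (e a ha).symm, fun e a ha => (e a ha).symm⟩

theorem fpf {d a : X} (hd : d ∈ D) (hd0 : d ∉ h.D0) (ha : a ∈ F) (e : d * a = a * d) : a = 1 :=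
  (h.hfix d hd).resolve_left (fun e' => hd0 (h.mem_D0.2 ⟨hd, e'⟩)) a ha e

/-- For `d ∈ D` not centralising `F`, all of `F d` is one class under `F`. -/
theorem exists_conj_of_notMem [Finite X] {d f : X} (hd : d ∈ D) (hd0 : d ∉ h.D0) (hf : f ∈ F) :
    ∃ a ∈ F, a * d * a⁻¹ = f * d := by
  let φ : F → F := fun a =>
    ⟨(a : X) * (d * (a : X)⁻¹ * d⁻¹), mul_mem a.2 (h.hDF d hd _ (inv_mem a.2))⟩
  have hinj : Function.Injective φ := by
    intro a b e
    have e' : (a : X) * (d * (a : X)⁻¹ * d⁻¹) = (b : X) * (d * (b : X)⁻¹ * d⁻¹) :=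
      congrArg Subtype.val e
    have e2 : d * ((b : X)⁻¹ * a) = ((b : X)⁻¹ * a) * d := by
      calc d * ((b : X)⁻¹ * a) = (b : X)⁻¹ * ((b : X) * (d * (b : X)⁻¹ * d⁻¹)) * d * a := by group
        _ = (b : X)⁻¹ * ((a : X) * (d * (a : X)⁻¹ * d⁻¹)) * d * a := by rw [e']
        _ = ((b : X)⁻¹ * a) * d := by group
    exact Subtype.ext (inv_mul_eq_one.1 (h.fpf hd hd0 (mul_mem (inv_mem b.2) a.2) e2)).symm
  obtain ⟨a, ha⟩ := Finite.surjective_of_injective hinj ⟨f, hf⟩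
  refine ⟨a, a.2, ?_⟩
  rw [show f = (a : X) * (d * (a : X)⁻¹ * d⁻¹) from (congrArg Subtype.val ha).symm]
  group

/-- An element of `M` centralising a nonidentity element of `F`. -/
theorem M_commute [Finite X] {w f d a : X} (hw : w ∈ h.W) (hf : f ∈ F) (hd : d ∈ D)
    (ha : a ∈ F) (ha1 : a ≠ 1) (e : w * (f * d) * a = a * (w * (f * d))) :
    (w = 1 ∨ w = t) ∧ d ∈ h.D0 := by
  have e1 : w * (d * a * d⁻¹) * w⁻¹ = a := by
    have hb : f * (d * a * d⁻¹) * f⁻¹ = d * a * d⁻¹ := by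
      rw [h.hFcomm f hf _ (h.hDF d hd a ha), mul_inv_cancel_right]
    calc w * (d * a * d⁻¹) * w⁻¹ = w * (f * (d * a * d⁻¹) * f⁻¹) * w⁻¹ := by rw [hb]
      _ = w * (f * d) * a * (w * (f * d))⁻¹ := by group
      _ = a := by rw [e]; group
  have hb : d * a * d⁻¹ ∈ F := h.hDF d hd a ha
  rcases h.mem_W.1 hw with rfl | rfl | rfl | rfl
  · refine ⟨Or.inl rfl, ?_⟩
    by_contra hd0
    refine ha1 (h.fpf hd hd0 ha ?_)
    rw [one_mul, inv_one, mul_one] at e1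
    exact mul_inv_eq_iff_eq_mul.1 e1
  · refine ⟨Or.inr rfl, ?_⟩
    by_contra hd0
    refine ha1 (h.fpf hd hd0 ha ?_)
    rw [h.hFt _ hb, mul_inv_cancel_right] at e1
    exact mul_inv_eq_iff_eq_mul.1 e1
  all_goals
    exfalso
    have e2 : d * a * d⁻¹ = a⁻¹ := by
      have hu := h.hFu _ hb
      first
      | (rw [hu] at e1; exact inv_eq_iff_eq_inv.1 e1)
      | (have e3 : t * u * (d * a * d⁻¹) * (t * u)⁻¹ = t * (u * (d * a * d⁻¹) * u⁻¹) * t⁻¹ := by group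
         rw [e3, hu, h.hFt _ (inv_mem hb), mul_inv_cancel_right] at e1
         exact inv_eq_iff_eq_inv.1 e1)
    have e3 : (d * d) * a = a * (d * d) := by
      have : d * d * a * (d * d)⁻¹ = a := by
        calc d * d * a * (d * d)⁻¹ = d * (d * a * d⁻¹) * d⁻¹ := by group
          _ = d * a⁻¹ * d⁻¹ := by rw [e2]
          _ = (d * a * d⁻¹)⁻¹ := by group
          _ = a := by rw [e2, inv_inv]
      exact mul_inv_eq_iff_eq_mul.1 this
    have hd0 : d ∈ h.D0 := by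
      by_contra hd0
      exact ha1 (h.fpf (mul_mem hd hd) (fun hdd => hd0 (mem_of_sq_mem h.hDodd hd hdd)) ha e3)
    rw [(h.mem_D0.1 hd0).2 a ha, mul_inv_cancel_right] at e2
    refine ha1 (eq_one_of_sq_of_odd h.hFodd ha ?_)
    nth_rewrite 2 [e2]
    exact mul_inv_cancel a

theorem comm_M_invol [Finite X] {x a : X} (hx : x ∈ h.M) (hx2 : x * x = 1) (hx1 : x ≠ 1)
    (ha : a ∈ F) (ha1 : a ≠ 1) (e : x * a = a * x) : x = t := by
  obtain ⟨w, hw, f, hf, d, hd, rfl⟩ := h.M_decomp hx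
  obtain ⟨hw', -⟩ := h.M_commute hw hf hd ha ha1 e
  have hk : f * d ∈ h.K := h.FD_mem_K hf hd
  rcases hw' with hw' | hw' <;> rw [hw'] at hx2 hx1 ⊢
  · rw [one_mul] at hx2 hx1
    exact absurd (eq_one_of_sq_of_odd h.odd_K hk hx2) hx1
  · have hc : f * d * t = t * (f * d) :=
      ((show Commute t f from h.hFt f hf).mul_right (show Commute t d from h.hDt d hd)).symm.eq
    have e2 : f * d * (f * d) = 1 := by
      calc f * d * (f * d) = t * t * (f * d * (f * d)) := by rw [h.tt, one_mul]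
        _ = t * (t * (f * d)) * (f * d) := by group
        _ = t * (f * d * t) * (f * d) := by rw [hc]
        _ = t * (f * d) * (t * (f * d)) := by group
        _ = 1 := hx2
    rw [eq_one_of_sq_of_odd h.odd_K hk e2, mul_one]

/-- Conjugation carries nonidentity elements of `F` into `M` only from `M`. -/
theorem F_conj_mem [Finite X] {g f : X} (hf : f ∈ F) (hf1 : f ≠ 1) (hg : g * f * g⁻¹ ∈ h.M) :
    g ∈ h.M := by
  have hm := h.mem_M_iff.1 hg
  have h1 : g⁻¹ * t * g * f = f * (g⁻¹ * t * g) := by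
    calc g⁻¹ * t * g * f = g⁻¹ * (t * (g * f * g⁻¹)) * g := by group
      _ = g⁻¹ * (g * f * g⁻¹ * t) * g := by rw [hm]
      _ = f * (g⁻¹ * t * g) := by group
  have h2 : g⁻¹ * t * g ∈ h.M := h.mem_M_iff.2 (h.hFcen f hf hf1 _ h1)
  have h3 : g⁻¹ * t * g * (g⁻¹ * t * g) = 1 := by
    calc g⁻¹ * t * g * (g⁻¹ * t * g) = g⁻¹ * (t * t) * g := by group
      _ = 1 := by rw [h.tt]; group
  have h4 : g⁻¹ * t * g ≠ 1 := fun e => h.t_ne_one (by
    calc t = g * (g⁻¹ * t * g) * g⁻¹ := by group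
      _ = 1 := by rw [e]; group)
  have h5 := h.comm_M_invol h2 h3 h4 hf hf1 h1
  rw [h.mem_M_conj]
  conv_lhs => rw [← h5]
  group

/-- An element of `M` normalising the four-group centralises `D`. -/
theorem cen_P_D [Finite X] {g : X} (hg : g ∈ h.M) (hgu : g * u * g⁻¹ ∈ h.W) {d : X} (hd : d ∈ D) :
    g * d * g⁻¹ = d := by
  obtain ⟨w, hw, f, hf, e, he, rfl⟩ := h.M_decomp hg
  have e1 : w * (f * e) * u * (w * (f * e))⁻¹ = w * (f * u * f⁻¹) * w⁻¹ := by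
    calc w * (f * e) * u * (w * (f * e))⁻¹ = w * (f * (e * u * e⁻¹) * f⁻¹) * w⁻¹ := by group
      _ = w * (f * u * f⁻¹) * w⁻¹ := by rw [← h.hDu e he, mul_inv_cancel_right]
  rw [e1] at hgu
  have e2 : f * u * f⁻¹ * u ∈ h.W := by
    have := h.W_mul (h.W_mul (h.W_mul hw hgu) hw) h.u_mem_W
    have e3 : w * (w * (f * u * f⁻¹) * w⁻¹) * w * u = f * u * f⁻¹ * u := by
      rw [← mul_assoc, ← mul_assoc, h.W_sq hw, one_mul, inv_mul_cancel_right]
    rwa [e3] at this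
  have e4 : f * u * f⁻¹ * u = f * f := by
    calc f * u * f⁻¹ * u = f * (u * f⁻¹ * u⁻¹) := by rw [h.uinv]; group
      _ = f * f := by rw [h.hFu _ (inv_mem hf), inv_inv]
  rw [e4] at e2
  have hf1 : f = 1 :=
    eq_one_of_sq_of_odd h.hFodd hf (h.W_inter_K e2 (h.F_le_K (mul_mem hf hf)))
  calc w * (f * e) * d * (w * (f * e))⁻¹ = w * (e * d * e⁻¹) * w⁻¹ := by rw [hf1]; group
    _ = w * d * w⁻¹ := by rw [h.hDcomm e he d hd, mul_inv_cancel_right]
    _ = d := by rw [h.W_comm_D hw hd, mul_inv_cancel_right]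

/-- Conjugation by `n` on `D`. -/
theorem n_cube_D [Finite X] {d : X} (hd : d ∈ D) : n * (n * (n * d * n⁻¹) * n⁻¹) * n⁻¹ = d := by
  have hutu : n * (t * u) * n⁻¹ = t := by
    calc n * (t * u) * n⁻¹ = (n * t * n⁻¹) * (n * u * n⁻¹) := by group
      _ = u * (t * u) := by rw [h.hn.1, h.hn.2]
      _ = (u * t) * u := (mul_assoc _ _ _).symm
      _ = t := by rw [← h.htu, mul_assoc, h.uu', mul_one]
  have ht3 : n * n * n * t * (n * n * n)⁻¹ = t := by
    calc n * n * n * t * (n * n * n)⁻¹ = n * (n * (n * t * n⁻¹) * n⁻¹) * n⁻¹ := by group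
      _ = t := by rw [h.hn.1, h.hn.2, hutu]
  have hu3 : n * n * n * u * (n * n * n)⁻¹ = u := by
    calc n * n * n * u * (n * n * n)⁻¹ = n * (n * (n * u * n⁻¹) * n⁻¹) * n⁻¹ := by group
      _ = u := by rw [h.hn.2, hutu, h.hn.1]
  calc n * (n * (n * d * n⁻¹) * n⁻¹) * n⁻¹ = n * n * n * d * (n * n * n)⁻¹ := by group
    _ = d := h.cen_P_D (h.mem_M_conj.2 ht3) (by rw [hu3]; exact h.u_mem_W) hd

/-- An element normalising `⟨t,u⟩` centralises `D` up to a power of `n`. -/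
theorem normalizer_D [Finite X] {g : X} (hgt : g * t * g⁻¹ ∈ h.W) (hgu : g * u * g⁻¹ ∈ h.W)
    {d : X} (hd : d ∈ D) :
    g * d * g⁻¹ = d ∨ g * d * g⁻¹ = n * d * n⁻¹ ∨ g * d * g⁻¹ = n * (n * d * n⁻¹) * n⁻¹ := by
  have key : ∀ {g : X}, g ∈ h.M → g * u * g⁻¹ ∈ h.W → ∀ {d : X}, d ∈ D → g * d * g⁻¹ = d :=
    fun hg hgu _ hd => h.cen_P_D hg hgu hd
  have hW : ∀ {w : X}, w ∈ h.W → n⁻¹ * w * n ∈ h.W := by
    intro w hw
    have hu0 : n⁻¹ * u * n = t := by rw [← h.hn.1]; group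
    have htu0 : n⁻¹ * (t * u) * n = u := by rw [← h.hn.2]; group
    have ht0 : n⁻¹ * t * n = t * u := by
      calc n⁻¹ * t * n = n⁻¹ * ((t * u) * u) * n := by rw [mul_assoc t u u, h.uu', mul_one]
        _ = (n⁻¹ * (t * u) * n) * (n⁻¹ * u * n) := by group
        _ = u * t := by rw [htu0, hu0]
        _ = t * u := h.htu.symm
    rcases h.mem_W.1 hw with rfl | rfl | rfl | rfl
    · simpa using h.one_mem_W
    · rw [ht0]; exact h.mem_W.2 (Or.inr (Or.inr (Or.inr rfl)))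
    · rw [hu0]; exact h.mem_W.2 (Or.inr (Or.inl rfl))
    · rw [htu0]; exact h.u_mem_W
  rcases h.mem_W.1 hgt with e | e | e | e
  · exact absurd (conj_eq_one_iff.1 e) h.t_ne_one
  · exact Or.inl (key (h.mem_M_conj.2 e) hgu hd)
  · refine Or.inr (Or.inl ?_)
    have hm : n⁻¹ * g ∈ h.M := h.mem_M_conj.2 (by
      calc n⁻¹ * g * t * (n⁻¹ * g)⁻¹ = n⁻¹ * (g * t * g⁻¹) * n := by group
        _ = t := by rw [e, ← h.hn.1]; group)
    have := key hm (by
      have e' : n⁻¹ * g * u * (n⁻¹ * g)⁻¹ = n⁻¹ * (g * u * g⁻¹) * n := by group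
      rw [e']; exact hW hgu) hd
    calc g * d * g⁻¹ = n * (n⁻¹ * g * d * (n⁻¹ * g)⁻¹) * n⁻¹ := by group
      _ = n * d * n⁻¹ := by rw [this]
  · refine Or.inr (Or.inr ?_)
    have hm : n⁻¹ * (n⁻¹ * g) ∈ h.M := h.mem_M_conj.2 (by
      calc n⁻¹ * (n⁻¹ * g) * t * (n⁻¹ * (n⁻¹ * g))⁻¹ = n⁻¹ * (n⁻¹ * (g * t * g⁻¹) * n) * n := by
            simp only [mul_inv_rev, inv_inv, mul_assoc]
        _ = t := by rw [e, ← h.hn.2]; conv_lhs => rw [← h.hn.1]
                    group)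
    have := key hm (by
      have e' : n⁻¹ * (n⁻¹ * g) * u * (n⁻¹ * (n⁻¹ * g))⁻¹ = n⁻¹ * (n⁻¹ * (g * u * g⁻¹) * n) * n := by
        simp only [mul_inv_rev, inv_inv, mul_assoc]
      rw [e']; exact hW (hW hgu)) hd
    calc g * d * g⁻¹ = n * (n * (n⁻¹ * (n⁻¹ * g) * d * (n⁻¹ * (n⁻¹ * g))⁻¹) * n⁻¹) * n⁻¹ := by group
      _ = n * (n * d * n⁻¹) * n⁻¹ := by rw [this]

/-- Fusion in `D`. -/
theorem fusion_D [Finite X] {g d : X} (hd : d ∈ D) (hg : g * d * g⁻¹ ∈ D) :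
    g * d * g⁻¹ = d ∨ g * d * g⁻¹ = n * d * n⁻¹ ∨ g * d * g⁻¹ = n * (n * d * n⁻¹) * n⁻¹ := by
  have : Fact (Nat.Prime 2) := ⟨Nat.prime_two⟩
  obtain ⟨P, hP⟩ := h.hsyl
  have hPW : ∀ x ∈ (P : Subgroup X), x ∈ h.W := by
    intro x hx
    rw [hP, Subgroup.zpowers_eq_closure, Subgroup.zpowers_eq_closure, ← Subgroup.closure_union] at hx
    induction hx using Subgroup.closure_induction with
    | mem y hy =>
      rcases hy with hy | hy
      · rw [Set.mem_singleton_iff.1 hy]; exact h.mem_W.2 (Or.inr (Or.inl rfl))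
      · rw [Set.mem_singleton_iff.1 hy]; exact h.u_mem_W
    | one => exact h.one_mem_W
    | mul a b _ _ ha hb => exact h.W_mul ha hb
    | inv a _ ha => rw [h.W_inv ha]; exact ha
  have hc : ∀ y ∈ D, y ∈ Subgroup.centralizer ((P : Subgroup X) : Set X) := fun y hy =>
    Subgroup.mem_centralizer_iff.2 fun x hx => h.W_comm_D (hPW x hx) hy
  obtain ⟨m, hm, he⟩ := P.conj_eq_normalizer_conj_of_mem_centralizer d g⁻¹ (hc d hd)
    (hc _ (by rwa [inv_inv]))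
  rw [inv_inv] at he
  rw [he]
  have htP : t ∈ (P : Subgroup X) := by
    rw [hP]; exact Subgroup.mem_sup_left (Subgroup.mem_zpowers t)
  have huP : u ∈ (P : Subgroup X) := by
    rw [hP]; exact Subgroup.mem_sup_right (Subgroup.mem_zpowers u)
  have hm' : ∀ x ∈ (P : Subgroup X), m⁻¹ * x * m ∈ h.W := fun x hx =>
    hPW _ (by simpa using (Subgroup.mem_normalizer_iff.1 (inv_mem hm) x).1 hx)
  simpa using h.normalizer_D (g := m⁻¹) (by simpa using hm' t htP) (by simpa using hm' u huP) hd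

/-- All involutions are conjugate to `t`. -/
theorem invol_conj [Finite X] {j : X} (hj : orderOf j = 2) : IsConj t j := by
  have : Fact (Nat.Prime 2) := ⟨Nat.prime_two⟩
  obtain ⟨P, hP⟩ := h.hsyl
  have hp : IsPGroup 2 (Subgroup.zpowers j) :=
    IsPGroup.of_card (n := 1) (by rw [Nat.card_zpowers, hj, pow_one])
  obtain ⟨Q, hQ⟩ := hp.exists_le_sylow
  obtain ⟨g, hg⟩ := MulAction.exists_smul_eq X Q P
  have hx : g * j * g⁻¹ ∈ (P : Subgroup X) := by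
    rw [← hg]
    exact ⟨j, hQ (Subgroup.mem_zpowers j), rfl⟩
  have hW : g * j * g⁻¹ ∈ h.W := by
    have hle : (P : Subgroup X) ≤ h.M := by
      rw [hP]
      exact sup_le (Subgroup.zpowers_le.2 h.t_mem_M) (Subgroup.zpowers_le.2 (h.W_le_M h.u_mem_W))
    obtain ⟨w, hw, k, hk, e⟩ := h.mem_M.1 (hle hx)
    have hkP : k ∈ (P : Subgroup X) := by
      have hwP : w ∈ (P : Subgroup X) := by
        rw [hP]
        have a1 := Subgroup.mem_sup_left (T := Subgroup.zpowers u) (Subgroup.mem_zpowers t)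
        have a2 := Subgroup.mem_sup_right (S := Subgroup.zpowers t) (Subgroup.mem_zpowers u)
        rcases h.mem_W.1 hw with rfl | rfl | rfl | rfl
        exacts [one_mem _, a1, a2, mul_mem a1 a2]
      have := mul_mem (inv_mem hwP) (e ▸ hx)
      rwa [inv_mul_cancel_left] at this
    obtain ⟨i, hi⟩ := IsPGroup.iff_orderOf.1 P.2 ⟨k, hkP⟩
    rw [Subgroup.orderOf_mk] at hi
    have h1 : orderOf k ∣ Nat.card h.K := by
      rw [← Subgroup.orderOf_mk k hk]; exact orderOf_dvd_natCard _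
    have h2 : orderOf k = 1 := by
      rw [hi] at h1 ⊢
      rcases Nat.eq_zero_or_pos i with rfl | hi0
      · rfl
      · have h3 : 2 ∣ Nat.card h.K := (dvd_pow_self 2 hi0.ne').trans h1
        exact absurd h3 h.odd_K.not_two_dvd_nat
    rw [orderOf_eq_one_iff.1 h2, mul_one] at e
    rw [e]; exact hw
  refine (IsConj.trans ?_ (isConj_iff.2 ⟨g, rfl⟩ : IsConj j (g * j * g⁻¹)).symm)
  rcases h.mem_W.1 hW with e | e | e | e <;> rw [e]
  · rw [conj_eq_one_iff] at e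
    rw [e, orderOf_one] at hj
    exact absurd hj (by norm_num)
  · exact isConj_iff.2 ⟨n, h.hn.1⟩
  · exact isConj_iff.2 ⟨n * n, by rw [← h.hn.2, ← h.hn.1]; group⟩

end KleinCent

end CfsgLib.Recog.NonCA
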