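import Cfsg.Agent.Lib.Recog.NonCA.KleinChar.Norms

/-!
# Separation of the constituents

A character with an odd coefficient at `l` has no other odd coefficient outside the `n`-orbit of
`l`: the central character modulo two determines the orbit sum.
-/

set_option autoImplicit false
set_option linter.unusedSectionVars false

namespace CfsgLib.Recog.NonCA

open CfsgLib.Char
open scoped ComplexConjugate

universe v

namespace KleinCent

open scoped Classical

variable {X : Type v} [Group X] [Fintype X] [Fintype (Cfsg.IrrCharacter X)] {t u n : X}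
  {F D : Subgroup X} (h : KleinCent t u n F D)
include h

/-- Conjugates in `C(t)` of elements of `K` lie in `K`. -/
theorem mem_K_of_conj {x c : X} (hx : x ∈ h.K) (hc : IsConj x c) (hct : c * t = t * c) :
    c ∈ h.K := by
  obtain ⟨g, rfl⟩ := isConj_iff.1 hc
  have hodd : Odd (Nat.card (Subgroup.zpowers (g * x * g⁻¹))) := by
    rw [Nat.card_zpowers]
    refine h.odd_K.of_dvd_nat ?_
    rw [show orderOf (g * x * g⁻¹) = orderOf x from
      (MulEquiv.orderOf_eq (MulAut.conj g) x), ← Subgroup.orderOf_mk x hx]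
    exact orderOf_dvd_natCard _
  refine mem_of_sq_mem hodd (Subgroup.mem_zpowers _) ?_
  obtain ⟨w, hw, k, hk, e⟩ := h.mem_M.1 (h.mem_M_iff.2 hct)
  rw [e]
  have e2 : w * k * (w * k) = (w * k * w⁻¹) * k := by rw [h.W_inv hw]; group
  rw [e2]
  exact mul_mem (h.W_K hw hk) hk

/-- The orbit sum. -/
def orbSum (l : D →* ℂˣ) (d : D) : ℂ :=
  (l d : ℂ) + (l (h.sig d) : ℂ) + (l (h.sig (h.sig d)) : ℂ)

/-- The central character modulo two is the orbit sum. -/
theorem sep_D {l : D →* ℂˣ} {χ : Cfsg.IrrCharacter X} (hc : h.cl l χ ≠ 0) (d : D) :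
    Two (Cfsg.centralChar (χ : X → ℂ) (d : X) - h.orbSum l d) := by
  have hodd : Odd (h.cl l χ) := by
    rcases (h.cl_cases l).1 χ with a | a | a
    · exact absurd a hc
    · rw [a]; exact odd_one
    · rw [a]; exact odd_one.neg
  have hs := cf_sep h.ht h.K.subtype_injective h.K_comm h.odd_K (h.lamK l) χ hodd
    (h.cl_cast l χ).symm (d : X) (fun c hc hct =>
      ⟨⟨c, h.mem_K_of_conj (h.D_le_K d.2) hc hct⟩, rfl⟩)
  set Q : Finset h.K := Finset.univ.filter (fun γ => IsConj (d : X) (h.K.subtype γ)) with hQ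
  have hnot : Two (∑ γ ∈ Q.filter (fun γ : h.K => (γ : X) ∉ D), (h.lamK l γ : ℂ)) := by
    refine two_sum_invol _ (fun γ => ⟨u * γ * u⁻¹, h.W_K h.u_mem_W γ.2⟩) ?_ ?_ ?_ ?_
      (fun γ _ => isIntegral_hom _ γ)
    · intro γ hγ
      simp only [hQ, Finset.mem_filter, Finset.mem_univ, true_and] at hγ ⊢
      refine ⟨hγ.1.trans (isConj_iff.2 ⟨u, rfl⟩), fun e => hγ.2 ?_⟩
      have e2 : (γ : X) = u⁻¹ * (u * γ * u⁻¹) * u := by group
      rw [e2, mul_assoc, ← h.hDu _ e, inv_mul_cancel_left]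
      exact e
    · intro γ _
      apply Subtype.ext
      show u * (u * γ * u⁻¹) * u⁻¹ = (γ : X)
      simp only [h.uinv, ← mul_assoc, h.uu', one_mul]
      rw [mul_assoc, h.uu', mul_one]
    · intro γ hγ e
      refine (Finset.mem_filter.1 hγ).2 ?_
      obtain ⟨f, hf, d', hd', ek⟩ := h.mem_K.1 γ.2
      have e1 : u * (γ : X) * u⁻¹ = γ := congrArg Subtype.val e
      have e2 : u * (γ : X) * u⁻¹ = f⁻¹ * d' := by
        rw [ek, ← h.hFu f hf]
        calc u * (f * d') * u⁻¹ = u * f * (d' * u⁻¹) := by group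
          _ = u * f * (u⁻¹ * d') := by rw [h.uinv, h.hDu d' hd']
          _ = u * f * u⁻¹ * d' := by group
      rw [e2, ek, mul_left_inj] at e1
      have hf1 : f = 1 := eq_one_of_sq_of_odd h.hFodd hf (by
        nth_rewrite 2 [← e1]; exact mul_inv_cancel f)
      rw [ek, hf1, one_mul]; exact hd'
    · intro γ _
      obtain ⟨f, hf, d', hd', ek⟩ := h.mem_K.1 γ.2
      rw [h.lamK_apply hf (d := ⟨d', hd'⟩) ek, h.lamK_apply (inv_mem hf) (d := ⟨d', hd'⟩)]
      show u * (γ : X) * u⁻¹ = f⁻¹ * d'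
      rw [ek, ← h.hFu f hf]
      calc u * (f * d') * u⁻¹ = u * f * (d' * u⁻¹) := by group
        _ = u * f * (u⁻¹ * d') := by rw [h.uinv, h.hDu d' hd']
        _ = u * f * u⁻¹ * d' := by group
  have hin : ∑ γ ∈ Q.filter (fun γ : h.K => (γ : X) ∈ D), (h.lamK l γ : ℂ) =
      ∑ δ ∈ ({d, h.sig d, h.sig (h.sig d)} : Finset D), (l δ : ℂ) := by
    refine (Finset.sum_bij (fun (δ : D) _ => (⟨(δ : X), h.D_le_K δ.2⟩ : h.K)) ?_
      (fun a _ b _ e => Subtype.ext (congrArg (fun k : h.K => (k : X)) e)) ?_ ?_).symm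
    · intro δ hδ
      simp only [Finset.mem_insert, Finset.mem_singleton] at hδ
      simp only [hQ, Finset.mem_filter, Finset.mem_univ, true_and]
      refine ⟨?_, δ.2⟩
      rcases hδ with rfl | rfl | rfl
      · exact IsConj.refl _
      · exact isConj_iff.2 ⟨n, (h.sig_apply d).symm⟩
      · refine isConj_iff.2 ⟨n * n, ?_⟩
        show n * n * (d : X) * (n * n)⁻¹ = n * (n * d * n⁻¹) * n⁻¹
        simp [mul_assoc]
    · intro γ hγ
      simp only [hQ, Finset.mem_filter, Finset.mem_univ, true_and] at hγ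
      obtain ⟨g, hg⟩ := isConj_iff.1 hγ.1
      refine ⟨⟨γ, hγ.2⟩, ?_, rfl⟩
      simp only [Finset.mem_insert, Finset.mem_singleton]
      rcases h.fusion_D d.2 (g := g) (by rw [hg]; exact hγ.2) with e | e | e
      · exact Or.inl (Subtype.ext (hg.symm.trans e))
      · exact Or.inr (Or.inl (Subtype.ext (hg.symm.trans e)))
      · exact Or.inr (Or.inr (Subtype.ext (hg.symm.trans e)))
    · intro δ _
      rw [h.lamK_apply (one_mem F) (d := δ) (one_mul _).symm]
  have hset : Two ((∑ δ ∈ ({d, h.sig d, h.sig (h.sig d)} : Finset D), (l δ : ℂ)) -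
      h.orbSum l d) := by
    unfold orbSum
    by_cases e : h.sig d = d
    · rw [e, e]
      simp only [Finset.insert_eq_of_mem, Finset.mem_singleton, Finset.sum_singleton]
      exact ⟨-(l d : ℂ), (isIntegral_hom l d).neg, by ring⟩
    · have e1 : h.sig (h.sig d) ≠ d := fun e' => e (by
        have := congrArg h.sig e'
        rw [h.sig_cube] at this
        exact this.symm)
      have e2 : h.sig (h.sig d) ≠ h.sig d := fun e' => e (h.sigEquiv.injective e')
      rw [Finset.sum_insert (by simp [Ne.symm e, Ne.symm e1]),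
        Finset.sum_pair (Ne.symm e2)]
      exact ⟨0, isIntegral_zero, by ring⟩
  have := hs.add (hnot.add hset)
  rw [← Finset.sum_filter_add_sum_filter_not Q (fun γ : h.K => (γ : X) ∈ D), hin] at this
  convert this using 1
  ring

theorem orbit_sum_D (μ : D →* ℂˣ) (l : D →* ℂˣ) :
    ∑ d : D, conj (μ d : ℂ) * h.orbSum l d =
      (Nat.card D : ℂ) * (((if l = μ then 1 else 0) + (if l.comp h.sig = μ then 1 else 0) +
        (if (l.comp h.sig).comp h.sig = μ then 1 else 0) : ℕ) : ℂ) := by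
  simp only [orbSum, mul_add, Finset.sum_add_distrib]
  rw [sum_conj_mul_hom μ l,
    show ∑ d : D, conj (μ d : ℂ) * (l (h.sig d) : ℂ) =
      ∑ d : D, conj (μ d : ℂ) * ((l.comp h.sig) d : ℂ) from rfl, sum_conj_mul_hom,
    show ∑ d : D, conj (μ d : ℂ) * (l (h.sig (h.sig d)) : ℂ) =
      ∑ d : D, conj (μ d : ℂ) * (((l.comp h.sig).comp h.sig) d : ℂ) from rfl, sum_conj_mul_hom]
  push_cast
  split_ifs <;> ring

/-- A character has odd coefficients in one orbit only. -/
theorem sep_orbit {l μ : D →* ℂˣ} {χ : Cfsg.IrrCharacter X} (hl : h.cl l χ ≠ 0)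
    (hμ : h.cl μ χ ≠ 0) : μ = l ∨ μ = l.comp h.sig ∨ μ = (l.comp h.sig).comp h.sig := by
  by_contra hne
  push Not at hne
  have h1 : ∀ d : D, Two (h.orbSum μ d - h.orbSum l d) := fun d => by
    have := (h.sep_D hl d).sub (h.sep_D hμ d)
    rwa [sub_sub_sub_cancel_left] at this
  have h2 : Two (∑ d : D, conj (μ d : ℂ) * (h.orbSum μ d - h.orbSum l d)) :=
    Two.sum _ fun d _ => (h1 d).mul_left (by rw [conj_hom_apply, ← map_inv]; exact isIntegral_hom μ _)
  simp only [mul_sub, Finset.sum_sub_distrib] at h2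
  rw [h.orbit_sum_D, h.orbit_sum_D, if_neg (Ne.symm hne.1), if_neg (Ne.symm hne.2.1),
    if_neg (Ne.symm hne.2.2), if_pos rfl, ← mul_sub] at h2
  by_cases e : μ.comp h.sig = μ
  · rw [if_pos e, if_pos (by rw [e, e])] at h2
    have h3 : Two (((3 * Nat.card D : ℕ) : ℤ) : ℂ) := by
      convert h2 using 1; push_cast; ring
    exact (Int.not_even_iff_odd.2 ((Int.odd_coe_nat _).2 (Odd.mul (by decide) h.hDodd))) h3.even
  · have e2 : (μ.comp h.sig).comp h.sig ≠ μ := fun e' => e (by
      refine MonoidHom.ext fun d => ?_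
      have := DFunLike.congr_fun e' (h.sig d)
      simp only [MonoidHom.comp_apply, h.sig_cube] at this
      exact this.symm)
    rw [if_neg e, if_neg e2] at h2
    have h3 : Two (((Nat.card D : ℕ) : ℤ) : ℂ) := by
      convert h2 using 1; push_cast; ring
    exact (Int.not_even_iff_odd.2 ((Int.odd_coe_nat _).2 h.hDodd)) h3.even

/-- Conjugation by an element of `M` on `F`. -/
def cjF (g : h.M) : F →* F := MonoidHom.mk'
  (fun f => ⟨(g : X) * f * (g : X)⁻¹, h.M_F g.2 f.2⟩) fun a b => Subtype.ext (by simp [mul_assoc])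

theorem cjF_apply (g : h.M) (f : F) : (h.cjF g f : X) = (g : X) * f * (g : X)⁻¹ := rfl

theorem card_cen_F {f : F} (hf : f ≠ 1) :
    (Finset.univ.filter fun g : h.M => h.cjF g f = f).card =
      2 * (Nat.card F * Nat.card h.D0) := by
  have hcard := h.card_prod_image ({1, t} : Finset X) (fun w hw => by
    simp only [Finset.mem_insert, Finset.mem_singleton] at hw
    rcases hw with rfl | rfl
    · exact h.one_mem_W
    · exact h.mem_W.2 (Or.inr (Or.inl rfl))) h.iA h.iA_inj h.iA_mem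
  rw [Finset.card_pair (Ne.symm h.t_ne_one), Nat.card_prod] at hcard
  rw [← hcard]
  refine Finset.card_bij (fun g _ => (g : X)) ?_ (fun a _ b _ e => Subtype.ext e) ?_
  · intro g hg
    obtain ⟨w, hw, a, ha, d, hd, e⟩ := h.M_decomp g.2
    have e1 : (g : X) * f * (g : X)⁻¹ = f := congrArg Subtype.val (Finset.mem_filter.1 hg).2
    rw [e, mul_inv_eq_iff_eq_mul] at e1
    obtain ⟨hw', hd'⟩ := h.M_commute hw ha hd f.2 (fun e' => hf (Subtype.ext e')) e1
    exact Finset.mem_image.2 ⟨(w, (⟨a, ha⟩, ⟨d, hd'⟩)), by simp [hw'], e.symm⟩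
  · intro x hx
    obtain ⟨⟨w, a, d⟩, hq, rfl⟩ := Finset.mem_image.1 hx
    simp only [Finset.mem_product, Finset.mem_insert, Finset.mem_singleton, Finset.mem_univ,
      and_true] at hq
    have hwW : w ∈ h.W := by
      rcases hq with rfl | rfl
      · exact h.one_mem_W
      · exact h.mem_W.2 (Or.inr (Or.inl rfl))
    have hM : w * h.iA (a, d) ∈ h.M := mul_mem (h.W_le_M hwW) (h.K_le_M (h.iA_mem _))
    refine ⟨⟨_, hM⟩, Finset.mem_filter.2 ⟨Finset.mem_univ _, Subtype.ext ?_⟩, rfl⟩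
    rw [h.cjF_apply, mul_inv_eq_iff_eq_mul]
    show Commute (w * ((a : X) * d)) (f : X)
    refine Commute.mul_left ?_ (Commute.mul_left (h.hFcomm a a.2 f f.2)
      ((h.mem_D0.1 d.2).2 f f.2))
    rcases hq with rfl | rfl
    · exact Commute.one_left _
    · exact h.hFt f f.2

theorem card_M' : Nat.card h.M = 4 * (Nat.card F * Nat.card D) := by
  rw [← h.card_M, Nat.card_eq_fintype_card]
  exact Fintype.card_of_subtype _ fun x => by simp [h.mem_M_conj]

/-- An odd coefficient at a character of `D` kills those at characters nontrivial on `F`. -/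
theorem ca_eq_zero {l : D →* ℂˣ} {χ : Cfsg.IrrCharacter X} (hl : h.cl l χ ≠ 0)
    {p : F →* ℂˣ} (hp : p ≠ 1) (q : h.D0 →* ℂˣ) : h.ca p q χ = 0 := by
  by_contra hq
  have hodd : Odd (h.cl l χ) := by
    rcases (h.cl_cases l).1 χ with a | a | a
    · exact absurd a hl
    · rw [a]; exact odd_one
    · rw [a]; exact odd_one.neg
  have hodd' : Odd (h.ca p q χ) := by
    rcases h.ca_cases hp q χ with a | a | a
    · exact absurd a hq
    · rw [a]; exact odd_one
    · rw [a]; exact odd_one.neg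
  set S : F → ℂ := fun f => ∑ f' ∈ Finset.univ.filter (fun f' : F => IsConj (f : X) (f' : X)),
    (p f' : ℂ) with hS
  have hfus : ∀ f : F, f ≠ 1 → ∀ c : X, IsConj (f : X) c → c * t = t * c → c ∈ F ∧ c ≠ 1 := by
    intro f hf c hc hct
    obtain ⟨g, rfl⟩ := isConj_iff.1 hc
    have hf' : (f : X) ≠ 1 := fun e => hf (Subtype.ext e)
    exact ⟨h.M_F (h.F_conj_mem f.2 hf' (h.mem_M_iff.2 hct)) f.2,
      fun e => hf' (conj_eq_one_iff.1 e)⟩
  have hS2 : ∀ f : F, f ≠ 1 → Two (S f) := by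
    intro f hf
    have hs1 := cf_sep h.ht h.K.subtype_injective h.K_comm h.odd_K (h.lamK l) χ hodd
      (h.cl_cast l χ).symm (f : X) (fun c hc hct =>
        ⟨⟨c, h.F_le_K (hfus f hf c hc hct).1⟩, rfl⟩)
    have hs2 := cf_sep h.ht h.iA_inj h.A_comm h.odd_A (h.lA p q) χ hodd' (h.ca_cast p q χ).symm
      (f : X) (fun c hc hct => ⟨(⟨c, (hfus f hf c hc hct).1⟩, 1), by simp [h.iA_apply]⟩)
    have hA : ∑ γ ∈ Finset.univ.filter (fun γ : F × h.D0 => IsConj (f : X) (h.iA γ)),
        (h.lA p q γ : ℂ) = S f := by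
      refine (Finset.sum_bij (fun (f' : F) _ => (f', (1 : h.D0))) ?_
        (fun a _ b _ e => congrArg Prod.fst e) ?_ ?_).symm
      · intro f' hf'
        simp only [Finset.mem_filter, Finset.mem_univ, true_and] at hf' ⊢
        simpa [h.iA_apply] using hf'
      · rintro ⟨a, d⟩ hγ
        simp only [Finset.mem_filter, Finset.mem_univ, true_and] at hγ ⊢
        obtain ⟨h1, -⟩ := hfus f hf _ hγ (h.A_comm (a, d)).symm
        obtain ⟨e1, e2⟩ := h.FD_ext h1 a.2 (one_mem D) (h.D0_le d.2)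
          (show h.iA (a, d) * 1 = (a : X) * (d : X) by rw [mul_one]; rfl)
        refine ⟨a, by rwa [← e1], ?_⟩
        exact Prod.ext rfl (Subtype.ext e2)
      · intro f' _
        simp [h.lA_apply]
    have hK : Two (∑ γ ∈ Finset.univ.filter (fun γ : h.K => IsConj (f : X) (h.K.subtype γ)),
        (h.lamK l γ : ℂ)) := by
      have hmem : ∀ γ ∈ Finset.univ.filter (fun γ : h.K => IsConj (f : X) (h.K.subtype γ)),
          (γ : X) ∈ F ∧ (γ : X) ≠ 1 := fun γ hγ =>
        hfus f hf _ (Finset.mem_filter.1 hγ).2 (h.mem_M_iff.1 (h.K_le_M γ.2))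
      refine two_sum_invol _ (fun γ => ⟨u * γ * u⁻¹, h.W_K h.u_mem_W γ.2⟩) ?_ ?_ ?_ ?_
        (fun γ _ => isIntegral_hom _ γ)
      · intro γ hγ
        simp only [Finset.mem_filter, Finset.mem_univ, true_and] at hγ ⊢
        exact hγ.trans (isConj_iff.2 ⟨u, rfl⟩)
      · intro γ _
        apply Subtype.ext
        show u * (u * γ * u⁻¹) * u⁻¹ = (γ : X)
        simp only [h.uinv, ← mul_assoc, h.uu', one_mul]
        rw [mul_assoc, h.uu', mul_one]
      · intro γ hγ e
        have e1 : u * (γ : X) * u⁻¹ = γ := congrArg Subtype.val e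
        rw [h.hFu _ (hmem γ hγ).1] at e1
        exact (hmem γ hγ).2 (eq_one_of_sq_of_odd h.hFodd (hmem γ hγ).1 (by
          nth_rewrite 2 [← e1]; exact mul_inv_cancel _))
      · intro γ hγ
        rw [h.lamK_apply (hmem γ hγ).1 (d := (1 : D)) (mul_one _).symm,
          h.lamK_apply (inv_mem (hmem γ hγ).1) (d := (1 : D))]
        show u * (γ : X) * u⁻¹ = (γ : X)⁻¹ * 1
        rw [mul_one, h.hFu _ (hmem γ hγ).1]
    rw [hA] at hs2
    have := (hs1.add hK).sub hs2
    convert this using 1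
    ring
  have hV : Two (∑ f ∈ Finset.univ.erase (1 : F), conj (p f : ℂ) * S f) :=
    Two.sum _ fun f hf => (hS2 f (Finset.mem_erase.1 hf).1).mul_left (by
      rw [conj_hom_apply, ← map_inv]; exact isIntegral_hom p _)
  set a := 2 * (Nat.card F * Nat.card h.D0) with ha
  have hsum : ∀ f : F, f ≠ 1 → (a : ℂ) * S f = ∑ g : h.M, (p (h.cjF g f) : ℂ) := by
    intro f hf
    rw [← Finset.sum_fiberwise (Finset.univ : Finset h.M) (fun g => h.cjF g f)
      (fun g => (p (h.cjF g f) : ℂ)), hS, Finset.mul_sum, Finset.sum_filter]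
    refine Finset.sum_congr rfl fun f' _ => ?_
    rw [Finset.sum_congr rfl fun g hg => by rw [(Finset.mem_filter.1 hg).2], Finset.sum_const,
      nsmul_eq_mul]
    split_ifs with hc
    · congr 2
      obtain ⟨c, hc⟩ := isConj_iff.1 hc
      have hcM : c ∈ h.M := h.F_conj_mem f.2 (fun e => hf (Subtype.ext e))
        (hc.symm ▸ h.K_le_M (h.F_le_K f'.2))
      have hc' : h.cjF ⟨c, hcM⟩ f = f' := Subtype.ext hc
      rw [ha, ← h.card_cen_F hf]
      have hmul : ∀ g g' : h.M, h.cjF (g * g') f = h.cjF g (h.cjF g' f) := fun g g' =>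
        Subtype.ext (by simp [h.cjF_apply, mul_assoc])
      refine Finset.card_equiv (Equiv.mulLeft (⟨c, hcM⟩ : h.M)) fun g => ?_
      simp only [Finset.mem_filter, Finset.mem_univ, true_and, Equiv.coe_mulLeft, hmul]
      constructor
      · intro e; rw [e, hc']
      · intro e
        have e' : (c : X) * (h.cjF g f : X) * c⁻¹ = c * f * c⁻¹ :=
          (congrArg Subtype.val e).trans hc.symm
        exact Subtype.ext (mul_left_cancel (mul_right_cancel e'))
    · rw [Finset.filter_eq_empty_iff.2 fun (g : h.M) _ (e : h.cjF g f = f') => hc (isConj_iff.2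
        ⟨g, congrArg Subtype.val e⟩)]
      simp
  have hstab : (Finset.univ.filter fun g : h.M => p.comp (h.cjF g) = p).card = a := by
    rw [ha, ← h.card_stab hp]
    refine Finset.card_bij (fun g _ => (g : X)) ?_ (fun a _ b _ e => Subtype.ext e) ?_
    · intro g hg
      refine Finset.mem_filter.2 ⟨Finset.mem_univ _, h.mem_M_conj.1 g.2, fun f f' e => ?_⟩
      rw [show f' = h.cjF g f from Subtype.ext e]
      exact DFunLike.congr_fun (Finset.mem_filter.1 hg).2 f
    · intro x hx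
      obtain ⟨-, hx1, hx2⟩ := Finset.mem_filter.1 hx
      exact ⟨⟨x, h.mem_M_conj.2 hx1⟩, Finset.mem_filter.2 ⟨Finset.mem_univ _,
        MonoidHom.ext fun f => hx2 f _ rfl⟩, rfl⟩
  have hcount : (a : ℂ) * ∑ f ∈ Finset.univ.erase (1 : F), conj (p f : ℂ) * S f =
      (Nat.card F : ℂ) * a - Nat.card h.M := by
    rw [Finset.mul_sum, Finset.sum_congr rfl fun f hf => show (a : ℂ) * (conj (p f : ℂ) * S f) =
      ∑ g : h.M, conj (p f : ℂ) * (p (h.cjF g f) : ℂ) from by
      rw [← Finset.mul_sum, ← hsum f (Finset.mem_erase.1 hf).1]; ring]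
    rw [Finset.sum_comm, Finset.sum_congr rfl fun g _ => show
      ∑ f ∈ Finset.univ.erase (1 : F), conj (p f : ℂ) * (p (h.cjF g f) : ℂ) =
        (if p.comp (h.cjF g) = p then (Nat.card F : ℂ) else 0) - 1 from by
      rw [← sum_conj_mul_hom, Finset.sum_erase_eq_sub (Finset.mem_univ _)]
      simp]
    rw [Finset.sum_sub_distrib, Finset.sum_ite, Finset.sum_const_zero, add_zero, Finset.sum_const,
      hstab, Finset.sum_const, Finset.card_univ, ← Nat.card_eq_fintype_card]
    simp [mul_comm]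
  have hval : ∑ f ∈ Finset.univ.erase (1 : F), conj (p f : ℂ) * S f =
      (((Nat.card F : ℤ) - 2 * h.idx : ℤ) : ℂ) := by
    have hane : (a : ℂ) ≠ 0 := by
      rw [ha]
      push_cast
      exact mul_ne_zero two_ne_zero (mul_ne_zero natCard_ne_zero natCard_ne_zero)
    apply mul_left_cancel₀ hane
    rw [hcount, h.card_M', ha, ← h.idx_mul]
    push_cast
    ring
  rw [hval] at hV
  have hev := hV.even
  rw [Int.even_sub] at hev
  have : Even (Nat.card F : ℤ) := hev.2 (even_two_mul _)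
  exact Int.not_even_iff_odd.2 ((Int.odd_coe_nat _).2 h.hFodd) this

/-- The orbit of `l`. -/
noncomputable def orbit (l : D →* ℂˣ) : Finset (D →* ℂˣ) :=
  {l, l.comp h.sig, (l.comp h.sig).comp h.sig}

/-- The value at `t` is the sum over the orbit. -/
theorem chi_t_orbit [Fintype (F →* ℂˣ)] [Fintype (h.D0 →* ℂˣ)] [Fintype (D →* ℂˣ)]
    {l : D →* ℂˣ} {χ : Cfsg.IrrCharacter X} (hl : h.cl l χ ≠ 0) :
    (χ : X → ℂ) t = ((∑ μ ∈ h.orbit l, h.cl μ χ : ℤ) : ℂ) := by
  rw [h.chi_t χ fun p hp q => h.ca_eq_zero hl hp q]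
  push_cast
  refine (Finset.sum_subset (Finset.subset_univ _) fun μ _ hμ => ?_).symm
  rw [Int.cast_eq_zero]
  by_contra hne
  refine hμ ?_
  simp only [orbit, Finset.mem_insert, Finset.mem_singleton]
  exact h.sep_orbit hl hne

end KleinCent

end CfsgLib.Recog.NonCA
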